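import Cfsg.Agent.Lib.Replacement.Constrained
import Cfsg.Agent.Lib.Transfer.FunctorFusion
import Cfsg.Agent.Lib.ConjFun.Basic
import Cfsg.Agent.Lib.LocalStructure.WeaklyClosed
import Cfsg.Agent.Lib.PComplement.GlaubermanThompson

/-!
# ZJ-like functors of strongly closed subgroups

* `IsZJLike p F`: the common properties of `D ↦ Z(J_A(D))` and `D ↦ Ω₁(Z(J_e(D)))`
  (`isZJLike_A`, `isZJLike_omega`);
* strongly closed subgroups in subgroups (`stronglyClosed_subgroupOf`) and in quotients by normal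
  `p'`-subgroups (`stronglyClosed_map`);
* `wFun F P D`: a conjugacy functor equal to `T ↦ F (D ⊓ T)` inside `P`.
-/

set_option autoImplicit false

namespace Cfsg.Agent.ZJControl

open Subgroup
open Cfsg.Agent.Replacement (StableOn)

universe u

/-- The common properties of the functors `D ↦ Z(J_A(D))` and `D ↦ Ω₁(Z(J_e(D)))`. -/
structure IsZJLike (p : ℕ) (F : ∀ (G : Type u) [Group G], Subgroup G → Subgroup G) : Prop where
  le : ∀ (G : Type u) [Group G] (D : Subgroup G), F G D ≤ D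
  ne_bot : ∀ (G : Type u) [Group G] [Finite G] (D : Subgroup G),
    IsPGroup p D → D ≠ ⊥ → F G D ≠ ⊥
  map : ∀ (G H : Type u) [Group G] [Group H] (f : G →* H) (D : Subgroup G),
    (∀ x ∈ D, f x = 1 → x = 1) → F H (D.map f) = (F G D).map f
  normal : ∀ (G : Type u) [Group G] [Finite G] (S : Sylow p G) (D : Subgroup G),
    Cfsg.IsStronglyClosed D (S : Subgroup G) → StableOn p (S : Subgroup G) →
      centralizer (Cfsg.pCore p G : Set G) ≤ Cfsg.pCore p G → (F G D).Normal

/-- `D ↦ Z(J_A(D))`. -/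
abbrev zjA : ∀ (G : Type u) [Group G], Subgroup G → Subgroup G :=
  fun _ _ D => Cfsg.centerThompsonAOf D

/-- `D ↦ Ω₁(Z(J_e(D)))`. -/
abbrev zjOmega (p : ℕ) : ∀ (G : Type u) [Group G], Subgroup G → Subgroup G :=
  fun _ _ D => Cfsg.omegaOne p (Cfsg.centerThompsonOf p D)

variable {p : ℕ} [Fact p.Prime]

theorem exists_orderOf_center {G : Type u} [Group G] [Finite G] {D : Subgroup G}
    (hD : IsPGroup p D) (h1 : D ≠ ⊥) :
    ∃ z ∈ D, z ∈ centralizer (D : Set G) ∧ z ≠ 1 ∧ z ^ p = 1 := by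
  have hne := LocalStructure.inf_centralizer_ne_bot hD h1 hD le_normalizer
  have hp : IsPGroup p ↥(D ⊓ centralizer (D : Set G)) := hD.to_le inf_le_left
  haveI := (nontrivial_iff_ne_bot _).2 hne
  obtain ⟨k, hk, hc⟩ := hp.nontrivial_iff_card.mp inferInstance
  obtain ⟨z, hz⟩ := exists_prime_orderOf_dvd_card' (G := ↥(D ⊓ centralizer (D : Set G))) p
    (hc ▸ dvd_pow_self p hk.ne')
  refine ⟨z, (mem_inf.1 z.2).1, (mem_inf.1 z.2).2, fun h => ?_, ?_⟩
  · rw [← Subgroup.orderOf_coe, h, orderOf_one] at hz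
    exact (Fact.out : p.Prime).one_lt.ne hz
  · rw [← hz, ← Subgroup.orderOf_coe, pow_orderOf_eq_one]

theorem isZJLike_A (h2 : p ≠ 2) : IsZJLike.{u} p zjA where
  le G _ D := inf_le_left.trans (PGroup.thompsonSubgroupAOf_le D)
  ne_bot G _ _ D hD h1 := by
    obtain ⟨z, hz, hzc, hz1, -⟩ := exists_orderOf_center hD h1
    intro h
    have hzJ : z ∈ centralizer (Cfsg.thompsonSubgroupAOf D : Set G) :=
      centralizer_le (PGroup.thompsonSubgroupAOf_le D) hzc
    have : z ∈ zjA G D := ⟨PGroup.centralizer_thompsonA_le D ⟨hz, hzJ⟩, hzJ⟩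
    rw [h, mem_bot] at this
    exact hz1 this
  map G H _ _ f D hf := Replacement.centerThompsonAOf_map_injOn f hf
  normal G _ _ S D hD hst hc := Replacement.centerThompsonAOf_normal h2 S hD hst hc

theorem isZJLike_omega (h2 : p ≠ 2) : IsZJLike.{u} p (zjOmega p) where
  le G _ D := (PGroup.omegaOne_le _).trans (inf_le_left.trans (PGroup.thompsonSubgroupOf_le D))
  ne_bot G _ _ D hD h1 := by
    obtain ⟨z, hz, hzc, hz1, hzp⟩ := exists_orderOf_center hD h1
    intro h
    have hzJ : z ∈ centralizer (Cfsg.thompsonSubgroupOf p D : Set G) :=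
      centralizer_le (PGroup.thompsonSubgroupOf_le D) hzc
    have := Replacement.omegaOne_centralizer_le_sInf p D
      (PGroup.mem_omegaOne_of_pow_eq_one (mem_inf.2 ⟨hz, hzJ⟩) hzp)
    rw [Replacement.sInf_isMaxEA, show Cfsg.omegaOne p (Cfsg.centerThompsonOf p D) = ⊥ from h,
      mem_bot] at this
    exact hz1 this
  map G H _ _ f D hf := by
    show Cfsg.omegaOne p (Cfsg.centerThompsonOf p (D.map f)) = _
    rw [Replacement.centerThompsonOf_map_injOn f hf]
    refine le_antisymm (PGroup.omegaOne_le_iff.2 ?_) (PGroup.map_omegaOne_le f _)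
    rintro _ ⟨x, hx, rfl⟩ hxp
    refine ⟨x, PGroup.mem_omegaOne_of_pow_eq_one hx (hf _ (pow_mem ?_ p) (by rw [map_pow, hxp])), rfl⟩
    exact PGroup.thompsonSubgroupOf_le D hx.1
  normal G _ _ S D hD hst hc := Replacement.omegaOne_centerThompsonOf_normal h2 S hD hst hc

variable {F : ∀ (G : Type u) [Group G], Subgroup G → Subgroup G} (hF : IsZJLike p F)

section Props

variable {G : Type u} [Group G]

include hF

omit [Fact p.Prime] in
theorem IsZJLike.map_conj (g : G) (D : Subgroup G) :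
    F G (D.map (MulAut.conj g).toMonoidHom) = (F G D).map (MulAut.conj g).toMonoidHom :=
  hF.map G G _ D fun _ _ hx => (MulAut.conj g).injective (hx.trans (map_one _).symm)

omit [Fact p.Prime] in
theorem IsZJLike.map_subtype {H : Subgroup G} (D : Subgroup H) :
    F G (D.map H.subtype) = (F H D).map H.subtype :=
  hF.map H G _ D fun _ _ hx => Subtype.ext hx

omit [Fact p.Prime] in
theorem IsZJLike.normalizer_le (D : Subgroup G) :
    normalizer (D : Set G) ≤ normalizer (F G D : Set G) := by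
  intro g hg
  rw [mem_normalizer_iff_map_conj_eq] at hg ⊢
  exact (hF.map_conj g D).symm.trans (congrArg (F G) hg)

omit [Fact p.Prime] in
theorem IsZJLike.apply_bot : F G (⊥ : Subgroup G) = ⊥ := le_bot_iff.1 (hF.le G ⊥)

omit [Fact p.Prime] in
theorem IsZJLike.sylow_le_normalizer {P D : Subgroup G} (hD : Cfsg.IsStronglyClosed D P) :
    P ≤ normalizer (F G D : Set G) := by
  refine le_trans (fun x hx => ?_) (hF.normalizer_le D)
  rw [mem_normalizer_iff]
  refine fun d => ⟨fun hd => hD.2 d hd x (mul_mem (mul_mem hx (hD.1 hd)) (inv_mem hx)),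
    fun hd => ?_⟩
  have h := hD.2 _ hd x⁻¹
    (mul_mem (mul_mem (inv_mem hx) (hD.1 hd)) (inv_mem (inv_mem hx)))
  simpa [mul_assoc] using h

end Props

section StronglyClosed

variable {G : Type u} [Group G]

omit [Fact p.Prime] in
theorem stronglyClosed_subgroupOf {P D : Subgroup G} (hD : Cfsg.IsStronglyClosed D P) {T : Subgroup G}
    (hT : T ≤ P) (H : Subgroup G) :
    Cfsg.IsStronglyClosed ((D ⊓ T).subgroupOf H) (T.subgroupOf H) :=
  ⟨comap_mono inf_le_right, fun x hx g hg =>
    ⟨hD.2 (x : G) hx.1 (g : G) (hT (by simpa [mem_subgroupOf] using hg)),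
      by simpa [mem_subgroupOf] using hg⟩⟩

/-- Images modulo a normal `p'`-subgroup. -/
theorem stronglyClosed_map [Finite G] (P : Sylow p G) {D : Subgroup G}
    (hD : Cfsg.IsStronglyClosed D (P : Subgroup G)) (N : Subgroup G) [N.Normal] :
    Cfsg.IsStronglyClosed (D.map (QuotientGroup.mk' N))
      ((P : Subgroup G).map (QuotientGroup.mk' N)) := by
  refine ⟨map_mono hD.1, ?_⟩
  rintro _ ⟨x, hx, rfl⟩ q hq
  obtain ⟨g, rfl⟩ := QuotientGroup.mk'_surjective N q
  rw [← map_inv, ← map_mul, ← map_mul] at hq ⊢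
  set y := g * x * g⁻¹ with hy
  have hyK : y ∈ (P : Subgroup G) ⊔ N := by
    have : y ∈ ((P : Subgroup G).map (QuotientGroup.mk' N)).comap (QuotientGroup.mk' N) := hq
    rwa [comap_map_eq, QuotientGroup.ker_mk'] at this
  have hyp : IsPGroup p (zpowers y) := by
    refine (P.2.map (MulAut.conj g).toMonoidHom).to_le (zpowers_le.2 ?_)
    exact ⟨x, hD.1 hx, by simp [hy]⟩
  obtain ⟨h, hh, hle⟩ := ConjFun.exists_conj_le_of_relIndex (T := (P : Subgroup G))
    (H := (P : Subgroup G) ⊔ N) P.2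
    (fun hd => P.not_dvd_index (hd.trans (relIndex_dvd_index_of_le le_sup_left)))
    (zpowers_le.2 hyK) hyp
  obtain ⟨a, ha, n, hn, rfl⟩ := mem_sup_of_normal_right.1 hh
  have h1 : a * n * y * (a * n)⁻¹ ∈ (P : Subgroup G) := hle ⟨y, mem_zpowers y, rfl⟩
  have h2 : n * y * n⁻¹ ∈ (P : Subgroup G) := by
    have := mul_mem (mul_mem (inv_mem ha) h1) ha
    simpa [mul_assoc] using this
  refine ⟨n * g * x * (n * g)⁻¹, hD.2 x hx (n * g) (by simpa [hy, mul_assoc] using h2), ?_⟩
  have hn1 : QuotientGroup.mk' N n = 1 := (QuotientGroup.eq_one_iff n).2 hn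
  simp only [map_mul, map_inv, hn1, hy, one_mul]

/-- A nontrivial strongly closed subgroup meets the centre of `P`, so every overgroup of the
centre of `P`. -/
theorem inf_ne_bot_of_stronglyClosed [Finite G] {P D T : Subgroup G} (hP : IsPGroup p P)
    (hD : Cfsg.IsStronglyClosed D P) (h1 : D ≠ ⊥) (hT : P ⊓ centralizer (P : Set G) ≤ T) :
    D ⊓ T ≠ ⊥ := by
  have hn : P ≤ normalizer (D : Set G) := Replacement.le_normalizer_of_stronglyClosed hD
  have hne := LocalStructure.inf_centralizer_ne_bot (hP.to_le hD.1) h1 hP hn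
  exact fun h => hne (le_bot_iff.1
    (h ▸ le_inf inf_le_left ((inf_le_inf_right _ hD.1).trans hT)))

end StronglyClosed

section Functor

variable {G : Type u} [Group G]

open scoped Classical in
/-- The conjugacy functor attached to `F` and a strongly closed `D`. -/
noncomputable def wFun (F : ∀ (G : Type u) [Group G], Subgroup G → Subgroup G) (D T : Subgroup G) :
    Subgroup G :=
  if closure {t | t ∈ T ∧ ∃ g : G, g * t * g⁻¹ ∈ D} = ⊥ then T ⊓ centralizer (T : Set G)
  else F G (closure {t | t ∈ T ∧ ∃ g : G, g * t * g⁻¹ ∈ D})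

omit [Fact p.Prime] in
theorem closure_eq_inf {P D T : Subgroup G} (hD : Cfsg.IsStronglyClosed D P) (hT : T ≤ P) :
    closure {t | t ∈ T ∧ ∃ g : G, g * t * g⁻¹ ∈ D} = D ⊓ T := by
  refine le_antisymm ((closure_le _).2 ?_) fun t ht =>
    subset_closure ⟨ht.2, 1, by simpa using ht.1⟩
  rintro t ⟨ht, g, hg⟩
  refine ⟨?_, ht⟩
  have := hD.2 _ hg g⁻¹ (by simpa [mul_assoc] using hT ht)
  simpa [mul_assoc] using this

omit [Fact p.Prime] in
theorem wFun_eq {P D T : Subgroup G} (hD : Cfsg.IsStronglyClosed D P) (hT : T ≤ P)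
    (hne : D ⊓ T ≠ ⊥) : wFun F D T = F G (D ⊓ T) := by
  unfold wFun
  rw [closure_eq_inf hD hT, if_neg hne]

include hF in
theorem isConjugacyFunctor_wFun [Finite G] (D : Subgroup G) :
    Cfsg.IsConjugacyFunctor p (wFun F D) := by
  intro T hT
  have hcl : closure {t | t ∈ T ∧ ∃ g : G, g * t * g⁻¹ ∈ D} ≤ T :=
    (closure_le _).2 fun t ht => ht.1
  refine ⟨?_, fun hne => ?_, fun m => ?_⟩
  · unfold wFun
    split_ifs
    · exact inf_le_left
    · exact (hF.le G _).trans hcl
  · unfold wFun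
    split_ifs with h
    · exact LocalStructure.inf_centralizer_ne_bot hT hne hT le_normalizer
    · exact hF.ne_bot G _ (hT.to_le hcl) h
  · set c := (MulAut.conj m).toMonoidHom with hc
    have hinj : Function.Injective c := (MulAut.conj m).injective
    have hset : closure {t | t ∈ T.map c ∧ ∃ g : G, g * t * g⁻¹ ∈ D} =
        (closure {t | t ∈ T ∧ ∃ g : G, g * t * g⁻¹ ∈ D}).map c := by
      rw [MonoidHom.map_closure]
      congr 1
      ext t
      constructor
      · rintro ⟨⟨s, hs, rfl⟩, g, hg⟩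
        exact ⟨s, ⟨hs, g * m, by simpa [hc, mul_assoc] using hg⟩, rfl⟩
      · rintro ⟨s, ⟨hs, g, hg⟩, rfl⟩
        exact ⟨⟨s, hs, rfl⟩, g * m⁻¹, by simpa [hc, mul_assoc] using hg⟩
    unfold wFun
    rw [hset]
    by_cases h : closure {t | t ∈ T ∧ ∃ g : G, g * t * g⁻¹ ∈ D} = ⊥
    · rw [if_pos h, if_pos (by rw [h, Subgroup.map_bot])]
      exact (PComplement.zOf_map c hinj T).symm
    · rw [if_neg h, if_neg (by rwa [Subgroup.map_eq_bot_iff_of_injective _ hinj])]
      exact hF.map G G c _ fun x _ hx => hinj (hx.trans (map_one c).symm)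

end Functor

end Cfsg.Agent.ZJControl
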