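import Cfsg.Agent.Lib.ZJControl.Basic
import Cfsg.Agent.Lib.Transfer.ConjFamily
import Cfsg.Agent.Lib.Transfer.Frobenius
import Cfsg.Agent.Lib.Coprime.Stabilize
import Cfsg.Agent.Lib.Involution.QuaternionFactor
import Cfsg.Prelude.Def_EvenType

/-!
# Control of strong fusion by the normaliser of a ZJ-like subgroup

`controlled_of_stableClass`: for a class `𝒞` of groups closed under subgroups and quotients in which
`C(O_p) ≤ O_p` implies stability, `N(F D)` controls strong fusion in `P` for every strongly closed `D`.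
-/

set_option autoImplicit false
set_option linter.style.haveILetI false

namespace Cfsg.Agent.ZJControl

open Subgroup
open scoped commutatorElement Pointwise
open Cfsg.Agent.Replacement (StableOn)
open Cfsg.Agent.Transfer (IsGoldschmidt FusionChain FusionChainUpTo)

universe u

section Ctl

variable {G : Type u} [Group G]

/-- Some element of `X` conjugates the elements of `A` as `g` does. -/
def Ctl (X : Subgroup G) (A : Set G) (g : G) : Prop :=
  ∃ x ∈ X, ∀ a ∈ A, g * a * g⁻¹ = x * a * x⁻¹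

theorem Ctl.of_mem {X : Subgroup G} {A : Set G} {g : G} (hg : g ∈ X) : Ctl X A g :=
  ⟨g, hg, fun _ _ => rfl⟩

theorem Ctl.mono {X Y : Subgroup G} {A B : Set G} {g : G} (h : Ctl X A g) (hXY : X ≤ Y)
    (hB : B ⊆ A) : Ctl Y B g := by
  obtain ⟨x, hx, he⟩ := h
  exact ⟨x, hXY hx, fun a ha => he a (hB ha)⟩

theorem Ctl.comp {X : Subgroup G} {A B : Set G} {g h : G} (hg : Ctl X A g)
    (hh : Ctl X B h) (hAB : ∀ a ∈ A, g * a * g⁻¹ ∈ B) : Ctl X A (h * g) := by
  obtain ⟨x, hx, he⟩ := hg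
  obtain ⟨y, hy, hf⟩ := hh
  refine ⟨y * x, mul_mem hy hx, fun a ha => ?_⟩
  calc h * g * a * (h * g)⁻¹ = h * (g * a * g⁻¹) * h⁻¹ := by group
    _ = y * (g * a * g⁻¹) * y⁻¹ := hf _ (hAB a ha)
    _ = y * x * a * (y * x)⁻¹ := by rw [he a ha]; group

theorem ctl_of_chain {X : Subgroup G} {C : Subgroup G → Prop}
    (hC : ∀ E, C E → ∀ x ∈ normalizer (E : Set G), Ctl X (E : Set G) x) {A : Set G} {g : G}
    (h : FusionChain C A g) : Ctl X A g⁻¹ := by
  induction h with
  | one A => exact Ctl.of_mem (by simp [one_mem])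
  | @step A D x h hD hA hx _ ih =>
    rw [mul_inv_rev]
    exact ((hC D hD _ (inv_mem hx)).mono le_rfl hA).comp ih fun a ha => ⟨a, ha, by simp⟩

theorem ctl_of_chainUpTo {X : Subgroup G} {C : Subgroup G → Prop}
    (hC : ∀ E, C E → ∀ x ∈ normalizer (E : Set G), Ctl X (E : Set G) x) {A : Set G} {g : G}
    (h : FusionChainUpTo C A g⁻¹) : Ctl X A g := by
  obtain ⟨c, hc, hch⟩ := h
  obtain ⟨x, hx, he⟩ := ctl_of_chain hC hch
  refine ⟨x, hx, fun a ha => ?_⟩
  have hca : a * c = c * a := mem_centralizer_iff.1 hc a ha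
  rw [← he a ha]
  calc g * a * g⁻¹ = g * (a * c) * c⁻¹ * g⁻¹ := by group
    _ = g * (c * a) * c⁻¹ * g⁻¹ := by rw [hca]
    _ = _ := by group

end Ctl

variable {p : ℕ} [Fact p.Prime]

/-- `N(F D)` controls strong fusion in `P`. -/
def Controlled (F : ∀ (G : Type u) [Group G], Subgroup G → Subgroup G) (G : Type u) [Group G]
    (P D : Subgroup G) : Prop :=
  ∀ A : Set G, A ⊆ P → ∀ g : G, (∀ a ∈ A, g * a * g⁻¹ ∈ P) →
    Ctl (normalizer (F G D : Set G)) A g

variable {G : Type u} [Group G] [Finite G]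

/-- Passing through a normal `p'`-subgroup. -/
theorem ctl_of_mk_eq {P X : Subgroup G} (hP : IsPGroup p P) (hPX : P ≤ X) (M : Subgroup G)
    [M.Normal] (hM : (Nat.card M).Coprime p) {A : Set G} (hA : A ⊆ P) {g : G}
    (hAg : ∀ a ∈ A, g * a * g⁻¹ ∈ P) {x : G} (hx : x ∈ X)
    (h : ∀ a ∈ A, QuotientGroup.mk' M (g * a * g⁻¹) = QuotientGroup.mk' M (x * a * x⁻¹)) :
    Ctl X A g := by
  set B := closure A
  have hBP : B ≤ P := (closure_le _).2 hA
  set cg := (MulAut.conj g).toMonoidHom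
  set cx := (MulAut.conj x).toMonoidHom
  have hB1 : B.map cg ≤ P := by
    rw [MonoidHom.map_closure, closure_le]
    rintro _ ⟨a, ha, rfl⟩
    exact hAg a ha
  have heq : ∀ b ∈ B, QuotientGroup.mk' M (cg b) = QuotientGroup.mk' M (cx b) := fun b hb =>
    MonoidHom.eqOn_closure (f := (QuotientGroup.mk' M).comp cg) (g := (QuotientGroup.mk' M).comp cx)
      (fun a ha => h a ha) hb
  have hle : B.map cx ≤ B.map cg ⊔ (M ⊓ X) := by
    rintro _ ⟨b, hb, rfl⟩
    have h1 : cg b ∈ B.map cg := mem_map_of_mem _ hb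
    have h2 : (cg b)⁻¹ * cx b ∈ M := QuotientGroup.eq.1 (heq b hb)
    have h3 : (cg b)⁻¹ * cx b ∈ X :=
      mul_mem (inv_mem (hPX (hB1 h1))) (mul_mem (mul_mem hx (hPX (hBP hb))) (inv_mem hx))
    have := mul_mem (mem_sup_left h1 : cg b ∈ B.map cg ⊔ (M ⊓ X)) (mem_sup_right (mem_inf.2 ⟨h2, h3⟩))
    rwa [mul_inv_cancel_left] at this
  have hnorm : B.map cg ≤ normalizer ((M ⊓ X : Subgroup G) : Set G) := fun b hb =>
    inf_normalizer_le_normalizer_inf
      ⟨(normalizer_eq_top (H := M)).symm ▸ mem_top b, le_normalizer (hPX (hB1 hb))⟩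
  have hcard : Nat.card (B.map cx) = Nat.card (B.map cg) :=
    (card_map_of_injective (MulAut.conj x).injective).trans
      (card_map_of_injective (MulAut.conj g).injective).symm
  have hcop : (Nat.card (B.map cg)).Coprime (Nat.card ↥(M ⊓ X)) := by
    obtain ⟨k, hk⟩ := (hP.to_le hB1).exists_card_eq
    rw [hk]
    exact ((hM.coprime_dvd_left (card_dvd_of_le inf_le_left)).pow_right k).symm
  haveI := (hP.to_le hB1).isNilpotent
  obtain ⟨m, hm, hconj⟩ := Coprime.exists_conj_eq_of_le_sup hnorm hle hcard hcop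
    (Or.inr inferInstance)
  refine ⟨m⁻¹ * x, mul_mem (inv_mem hm.2) hx, fun a ha => ?_⟩
  have hxa : x * a * x⁻¹ ∈ MulAut.conj m • B.map cg :=
    hconj.symm ▸ ⟨a, subset_closure ha, rfl⟩
  rw [Subgroup.mem_pointwise_smul_iff_inv_smul_mem] at hxa
  obtain ⟨c, hc, hce⟩ := hxa
  have hce' : g * c * g⁻¹ = m⁻¹ * (x * a * x⁻¹) * m := by simpa [cg, mul_assoc] using hce
  have hm1 : QuotientGroup.mk' M m = 1 := (QuotientGroup.eq_one_iff m).2 hm.1
  have h2 : QuotientGroup.mk' M (g * c * g⁻¹) = QuotientGroup.mk' M (g * a * g⁻¹) := by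
    rw [hce', h a ha, map_mul, map_mul _ m⁻¹, map_inv _ m, hm1, inv_one, one_mul, mul_one]
  have h3 : (g * c * g⁻¹)⁻¹ * (g * a * g⁻¹) ∈ M := QuotientGroup.eq.1 h2
  have h4 : (g * c * g⁻¹)⁻¹ * (g * a * g⁻¹) ∈ P :=
    mul_mem (inv_mem (hB1 ⟨c, hc, rfl⟩)) (hAg a ha)
  have h5 : (g * c * g⁻¹)⁻¹ * (g * a * g⁻¹) = 1 :=
    disjoint_def.1 (PCore.disjoint_of_isPGroup_of_coprime hP hM) h4 h3
  rw [inv_mul_eq_one] at h5
  rw [← h5, hce']
  group

/-- In a p-group, growth of normalisers. -/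
theorem le_of_inf_normalizer_le {P V E : Subgroup G} (hP : IsPGroup p P) (hV : V ≤ P) (hE : E ≤ P)
    (hn : P ≤ normalizer (V : Set G)) (h : V ⊓ normalizer (E : Set G) ≤ E) : V ≤ E := by
  by_contra hne
  have hlt : E < E ⊔ V := left_lt_sup.2 hne
  have h1 := Transfer.lt_inf_normalizer_of_lt (hP.to_le (sup_le hE hV)) hlt
  refine h1.not_ge fun w hw => ?_
  obtain ⟨e, he, v, hv, rfl⟩ := (Coprime.mem_sup_iff_of_le_normalizer (hE.trans hn)).1 hw.1
  refine mul_mem he (h ⟨hv, ?_⟩)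
  have := mul_mem (inv_mem (le_normalizer he)) hw.2
  rwa [inv_mul_cancel_left] at this

/-- The facts about a member of the conjugation family. -/
theorem member_inf_le {P : Sylow p G} {E : Subgroup G} (hE : IsGoldschmidt P E) :
    (P : Subgroup G) ⊓ (Cfsg.pPrimePCore p ↥(normalizer (E : Set G))).map
      (normalizer (E : Set G)).subtype ≤ E := by
  obtain ⟨hEP, -, hd, -⟩ := hE
  rintro z ⟨hzP, hzX⟩
  obtain ⟨o, ho, e, he, rfl⟩ := QuaternionFactor.exists_split hd hzX
  have hoP : o ∈ (P : Subgroup G) := by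
    simpa using Subgroup.mul_mem (P : Subgroup G) hzP (Subgroup.inv_mem _ (hEP he))
  obtain ⟨o', ho', rfl⟩ := ho
  have h1 : (o' : G) = 1 := by
    refine PComplement.eq_one_of_mem_sylow hoP ?_
    rw [orderOf_coe]
    exact PCore.coprime_card_pPrimeCore.coprime_dvd_left (orderOf_dvd_natCard _ ho')
  show (o' : G) * e ∈ E
  rw [h1, one_mul]
  exact he

theorem pCore_le_member {P : Sylow p G} {E : Subgroup G} (hE : IsGoldschmidt P E) :
    Cfsg.pCore p G ≤ E := by
  refine le_of_inf_normalizer_le P.2 (PCore.pCore_le_sylow P) hE.1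
    ((normalizer_eq_top (H := Cfsg.pCore p G)).symm ▸ le_top) ?_
  rintro z ⟨hz, hzN⟩
  refine member_inf_le hE ⟨PCore.pCore_le_sylow P hz, ⟨⟨z, hzN⟩, ?_, rfl⟩⟩
  exact PCore.pCore_le_pPrimePCore (PCore.pCore_subgroupOf_le _ hz)

/-- `P` meets `O_p(G) C(O_p(G))` outside `O_p(G)` unless `C(O_p(G)) ≤ O_p(G)`. -/
theorem inf_centralizer_not_le (P : Sylow p G) (hO : Cfsg.pPrimeCore p G = ⊥)
    (hc : ¬ centralizer (Cfsg.pCore p G : Set G) ≤ Cfsg.pCore p G) :
    ¬ (P : Subgroup G) ⊓ centralizer (Cfsg.pCore p G : Set G) ≤ Cfsg.pCore p G := by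
  intro hle
  apply hc
  set C := centralizer (Cfsg.pCore p G : Set G)
  obtain ⟨S, hS⟩ := SylowCount.exists_sylow_inf P C
  have hcz : (S : Subgroup C) ≤ center C := fun z hz => mem_center_iff.2 fun y => Subtype.ext
    (mem_centralizer_iff.1 y.2 (z : G) (hle ⟨mem_subgroupOf.1 (hS ▸ hz), z.2⟩)).symm
  have hCn : Cfsg.HasNormalPComplement p C := (Transfer.hasNormalPComplement_iff_inf_eq_bot S).2
    (Transfer.pResidual_le_centralizer_of_central_sylow S hcz)
  haveI := Transfer.pResidual_characteristic (G := C) p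
  have hcop : (Nat.card ↥((Cfsg.pResidual p C).map C.subtype)).Coprime p := by
    rw [card_map_of_injective C.subtype_injective]
    exact ((Fact.out : p.Prime).coprime_iff_not_dvd.2
      (Transfer.hasNormalPComplement_iff.1 hCn)).symm
  have h1 : (Cfsg.pResidual p C).map C.subtype ≤ ⊥ := hO ▸ PCore.le_pPrimeCore hcop
  have h2 : Cfsg.pResidual p C = ⊥ :=
    (Subgroup.map_eq_bot_iff_of_injective _ C.subtype_injective).1 (le_bot_iff.1 h1)
  refine PCore.le_pCore fun x => ?_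
  obtain ⟨k, hk⟩ := Transfer.isPGroup_quotient_pResidual (G := C) p
    (QuotientGroup.mk x : C ⧸ Cfsg.pResidual p C)
  rw [← QuotientGroup.mk_pow, QuotientGroup.eq_one_iff, h2, mem_bot] at hk
  exact ⟨k, hk⟩

/-- The member step when `G = P C(O_p(G))`. -/
theorem member_le_normalizer (P : Sylow p G) {V : Subgroup G}
    (hPC : (P : Subgroup G) ⊔ centralizer (Cfsg.pCore p G : Set G) = ⊤)
    (hQV : Cfsg.pCore p G ≤ V) (hVP : V ≤ (P : Subgroup G))
    (hPV : (P : Subgroup G) ≤ normalizer (V : Set G))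
    (hq : ∀ E : Subgroup G, E ≤ (P : Subgroup G) → ∀ x ∈ normalizer (E : Set G),
      ∃ n ∈ normalizer (V : Set G), ∀ e ∈ E,
        QuotientGroup.mk' (Cfsg.pCore p G) (x * e * x⁻¹) =
          QuotientGroup.mk' (Cfsg.pCore p G) (n * e * n⁻¹))
    {E : Subgroup G} (hE : IsGoldschmidt P E) :
    normalizer (E : Set G) ≤ normalizer (V : Set G) := by
  set Q := Cfsg.pCore p G with hQ
  set π := QuotientGroup.mk' Q with hπ
  set N := normalizer (E : Set G) with hN
  have hQE : Q ≤ E := pCore_le_member hE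
  set C := centralizer (Q : Set G)
  set Kq := N ⊓ (centralizer ((E.map π : Subgroup (G ⧸ Q)) : Set (G ⧸ Q))).comap π with hKq
  -- decomposition `x = k n`
  have hdec : ∀ x ∈ N, ∃ n ∈ N ⊓ normalizer (V : Set G), x * n⁻¹ ∈ Kq := by
    intro x hx
    obtain ⟨n, hn, he⟩ := hq E hE.1 x hx
    have hnN : n ∈ N := by
      refine PGroup.mem_normalizer_of_map_conj_eq
        (eq_of_le_of_card_ge ?_ (card_map_of_injective (MulAut.conj n).injective).ge)
      rintro _ ⟨e, he', rfl⟩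
      have h2 : (x * e * x⁻¹)⁻¹ * (n * e * n⁻¹) ∈ Q := QuotientGroup.eq.1 (he e he')
      have := mul_mem ((mem_normalizer_iff.1 hx e).1 he') (hQE h2)
      rwa [mul_inv_cancel_left] at this
    refine ⟨n, ⟨hnN, hn⟩, Subgroup.mul_mem N hx (Subgroup.inv_mem N hnN), mem_centralizer_iff.2 ?_⟩
    rintro _ ⟨f, hf, rfl⟩
    have hf' : n⁻¹ * f * n ∈ E := (mem_normalizer_iff''.1 hnN f).1 hf
    have h3 := he _ hf'
    rw [show n * (n⁻¹ * f * n) * n⁻¹ = f by group] at h3
    calc π f * π (x * n⁻¹) = π (x * (n⁻¹ * f * n) * x⁻¹) * π (x * n⁻¹) := by rw [h3]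
      _ = π (x * n⁻¹) * π f := by rw [← map_mul, ← map_mul]; congr 1; group
  -- `p'`-elements of `Kq` centralise `E`
  have hcent : ∀ y ∈ Kq, (orderOf y).Coprime p → y ∈ centralizer (E : Set G) := by
    intro y hy hyo
    have hyC : y ∈ C := by
      have hp' : IsPGroup p ((P : Subgroup G).map (QuotientGroup.mk' C)) := P.2.map _
      obtain ⟨k, hk⟩ := hp' ⟨QuotientGroup.mk' C y, by
        have : y ∈ ((P : Subgroup G).map (QuotientGroup.mk' C)).comap (QuotientGroup.mk' C) := by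
          rw [comap_map_eq, QuotientGroup.ker_mk', hPC]; exact mem_top y
        exact this⟩
      have hk' : (QuotientGroup.mk' C y) ^ p ^ k = 1 := congrArg Subtype.val hk
      rw [← QuotientGroup.eq_one_iff]
      exact orderOf_eq_one_iff.1 (Nat.eq_one_of_dvd_coprimes (hyo.pow_right k)
        (orderOf_map_dvd (QuotientGroup.mk' C) y) (orderOf_dvd_of_pow_eq_one hk'))
    refine mem_centralizer_iff.2 fun e he => (Commute.eq ?_).symm
    set z := y * e * y⁻¹ * e⁻¹ with hz
    have hzQ : z ∈ Q := by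
      rw [← QuotientGroup.eq_one_iff]
      show π z = 1
      have := mem_centralizer_iff.1 hy.2 (π e) (mem_map_of_mem _ he)
      rw [hz, map_mul, map_mul, map_mul, map_inv, map_inv, ← this]
      group
    refine Coprime.commute_of_translate (z := z) (by rw [hz]; group)
      ((mem_centralizer_iff.1 hyC z hzQ).symm) ?_
    obtain ⟨k, hk⟩ := (PCore.isPGroup_pCore (p := p) (G := G)).exists_card_eq
    exact (hyo.pow_right k).coprime_dvd_right (hk ▸ orderOf_dvd_natCard Q hzQ)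
  -- passing to `N / O_{p'}(N)`
  set O := Cfsg.pPrimeCore p ↥N
  set f := QuotientGroup.mk' O
  have hCX : ∀ y : N, (y : G) ∈ centralizer (E : Set G) → f y ∈ Cfsg.pCore p (↥N ⧸ O) := by
    intro y hy
    obtain ⟨y', hy', he⟩ := hE.2.1 hy
    rw [← show y' = y from Subtype.ext he]
    exact hy'
  have hKp : IsPGroup p ((Kq.subgroupOf N).map f) := by
    refine PComplement.isPrimePow_orderOf_of_forall ?_
    rintro _ ⟨y, hy, rfl⟩ hyo
    obtain ⟨k, hk1, hk2⟩ : ∃ k : ℕ, (orderOf (y ^ k)).Coprime p ∧ f (y ^ k) = f y := by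
      obtain ⟨e, m, hm, hem⟩ := Nat.exists_eq_pow_mul_and_not_dvd (orderOf_pos y).ne' p
        (Fact.out : p.Prime).ne_one
      obtain ⟨l, hl⟩ := exists_pow_eq_self_of_coprime (x := f y) (hyo.symm.pow_left e)
      refine ⟨p ^ e * l, ?_, by rw [map_pow, pow_mul, hl]⟩
      have hd : orderOf (y ^ (p ^ e * l)) ∣ m := by
        apply orderOf_dvd_of_pow_eq_one
        rw [← pow_mul, mul_right_comm, ← hem, pow_mul, pow_orderOf_eq_one, one_pow]
      exact Nat.Coprime.coprime_dvd_left hd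
        ((Nat.Prime.coprime_iff_not_dvd Fact.out).2 hm).symm
    rw [← hk2]
    have h1 := hCX _ (hcent _ (pow_mem (mem_subgroupOf.1 hy) k : ((y ^ k : N) : G) ∈ Kq)
      (by rwa [orderOf_coe]))
    obtain ⟨j, hj⟩ := PCore.isPGroup_pCore ⟨_, h1⟩
    exact orderOf_eq_one_iff.1 (Nat.eq_one_of_dvd_coprimes (hk1.pow_right j)
      (orderOf_map_dvd f _) (orderOf_dvd_of_pow_eq_one (congrArg Subtype.val hj)))
  have hKn : ((Kq.subgroupOf N).map f).Normal := by
    refine Subgroup.Normal.map ⟨fun y hy x => ?_⟩ _ (QuotientGroup.mk'_surjective O)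
    refine ⟨(x * y * x⁻¹).2, mem_centralizer_iff.2 ?_⟩
    rintro _ ⟨e, he, rfl⟩
    have h1 := mem_centralizer_iff.1 (mem_subgroupOf.1 hy).2 (π ((x : G)⁻¹ * e * x))
      (mem_map_of_mem _ ((mem_normalizer_iff''.1 x.2 e).1 he))
    show π e * π ((x : G) * (y : G) * (x : G)⁻¹) = π ((x : G) * (y : G) * (x : G)⁻¹) * π e
    rw [← map_mul, ← map_mul] at h1
    calc π e * π ((x : G) * (y : G) * (x : G)⁻¹)
        = π (x : G) * π ((x : G)⁻¹ * e * x * y) * π (x : G)⁻¹ := by
          rw [← map_mul, ← map_mul, ← map_mul]; congr 1; group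
      _ = π (x : G) * π (y * ((x : G)⁻¹ * e * x)) * π (x : G)⁻¹ := by rw [h1]
      _ = _ := by rw [← map_mul, ← map_mul, ← map_mul]; congr 1; group
  haveI := hKn
  set M := (V ⊓ N).subgroupOf N with hM
  have hsup : IsPGroup p ↥(M.map f ⊔ (Kq.subgroupOf N).map f) :=
    ((P.2.to_le (inf_le_left.trans hVP)).comap_subtype.map f).to_sup_of_normal_right hKp
  have hsn : (M.map f ⊔ (Kq.subgroupOf N).map f).Normal := by
    have key : ∀ q : ↥N ⧸ O, ∀ v ∈ M.map f, q * v * q⁻¹ ∈ M.map f ⊔ (Kq.subgroupOf N).map f := by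
      rintro q _ ⟨v, hv, rfl⟩
      obtain ⟨x, rfl⟩ := QuotientGroup.mk'_surjective O q
      obtain ⟨n, ⟨hnN, hnV⟩, hk⟩ := hdec x x.2
      set k : N := x * (⟨n, hnN⟩ : N)⁻¹ with hkdef
      have hkK : f k ∈ (Kq.subgroupOf N).map f := mem_map_of_mem f hk
      have hv' : f (⟨n, hnN⟩ * v * ⟨n, hnN⟩⁻¹) ∈ M.map f := mem_map_of_mem f
        (mem_inf.2 ⟨(mem_normalizer_iff.1 hnV _).1 (mem_subgroupOf.1 hv).1,
          mul_mem (mul_mem hnN v.2) (inv_mem hnN)⟩)
      have h2 := mul_mem (mul_mem (mem_sup_right hkK : f k ∈ M.map f ⊔ (Kq.subgroupOf N).map f)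
        (mem_sup_left hv')) (inv_mem (mem_sup_right hkK))
      convert h2 using 1
      rw [hkdef, ← map_inv, ← map_inv, ← map_mul, ← map_mul, ← map_mul, ← map_mul]
      congr 1
      group
    refine ⟨fun v hv q => ?_⟩
    have hmap : (M.map f ⊔ (Kq.subgroupOf N).map f).map (MulAut.conj q).toMonoidHom ≤
        M.map f ⊔ (Kq.subgroupOf N).map f := by
      rw [Subgroup.map_sup]
      refine sup_le ?_ (le_trans ?_ le_sup_right)
      · rintro _ ⟨w, hw, rfl⟩; exact key q w hw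
      · rintro _ ⟨w, hw, rfl⟩; exact hKn.conj_mem w hw q
    exact hmap ⟨v, hv, rfl⟩
  have hVE : V ≤ E := by
    refine le_of_inf_normalizer_le P.2 hVP hE.1 hPV ?_
    rintro v ⟨hv, hvN⟩
    refine member_inf_le hE ⟨hVP hv, ⟨⟨v, hvN⟩, ?_, rfl⟩⟩
    exact PCore.le_pCore (hN := hsn) hsup (mem_sup_left (mem_map_of_mem f (mem_inf.2 ⟨hv, hvN⟩)))
  intro x hx
  obtain ⟨n, ⟨-, hnV⟩, hk⟩ := hdec x hx
  have hkV : x * n⁻¹ ∈ normalizer (V : Set G) := by
    refine PGroup.mem_normalizer_of_map_conj_eq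
      (eq_of_le_of_card_ge ?_ (card_map_of_injective (MulAut.conj (x * n⁻¹)).injective).ge)
    rintro _ ⟨v, hv, rfl⟩
    have h1 := mem_centralizer_iff.1 hk.2 (π v) (mem_map_of_mem _ (hVE hv))
    show x * n⁻¹ * v * (x * n⁻¹)⁻¹ ∈ V
    have h2 : v⁻¹ * (x * n⁻¹ * v * (x * n⁻¹)⁻¹) ∈ Q := by
      rw [← QuotientGroup.eq_one_iff]
      show π _ = 1
      rw [map_mul, map_mul _ (x * n⁻¹ * v), map_mul π (x * n⁻¹) v, ← h1, map_inv, map_inv]
      group
    have := mul_mem hv (hQV h2)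
    rwa [mul_inv_cancel_left] at this
  simpa using mul_mem hkV hnV

/-- If `G = P C(Q)`, elements of order prime to `p` centralise `Q`. -/
theorem centralizes_of_sup_eq_top {G : Type u} [Group G] [Finite G] (P : Sylow p G) {Q : Subgroup G}
    [Q.Normal] (h : (P : Subgroup G) ⊔ centralizer (Q : Set G) = ⊤) :
    ∀ g : G, (orderOf g).Coprime p → g ∈ centralizer (Q : Set G) := by
  intro g hg
  set π := QuotientGroup.mk' (centralizer (Q : Set G)) with hπ
  have hmem : π g ∈ (P : Subgroup G).map π := by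
    have h1 := congrArg (Subgroup.map π) h
    rw [Subgroup.map_sup, (map_eq_bot_iff (centralizer (Q : Set G))).2 (QuotientGroup.ker_mk' _).ge,
      sup_bot_eq] at h1
    rw [h1]
    exact mem_map_of_mem π (mem_top g)
  obtain ⟨k, hk⟩ := P.2.map π ⟨_, hmem⟩
  refine (QuotientGroup.eq_one_iff g).1 (orderOf_eq_one_iff.1 (Nat.eq_one_of_dvd_coprimes
    (Nat.Coprime.pow_right k hg) (orderOf_map_dvd π g)
    (orderOf_dvd_of_pow_eq_one (congrArg Subtype.val hk))))

/-- Control of strong fusion by `N(F D)`, needing only quotients by normal `p'`-subgroups and by normal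
`p`-subgroups centralised by the elements of order prime to `p`. -/
theorem controlled_of_restrictedClass (h2 : p ≠ 2) (𝒞 : ∀ (G : Type u) [Group G], Prop)
    (hsub : ∀ (G : Type u) [Group G] [Finite G] (H : Subgroup G), 𝒞 G → 𝒞 ↥H)
    (hquot : ∀ (G : Type u) [Group G] [Finite G] (N : Subgroup G) [N.Normal],
      (Nat.card N).Coprime p ∨
        (IsPGroup p N ∧ ∀ h : G, (orderOf h).Coprime p → h ∈ centralizer (N : Set G)) →
      𝒞 G → 𝒞 (G ⧸ N))
    (hst : ∀ (G : Type u) [Group G] [Finite G], 𝒞 G → ∀ S : Sylow p G,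
      centralizer (Cfsg.pCore p G : Set G) ≤ Cfsg.pCore p G → StableOn p (S : Subgroup G))
    {G : Type u} [Group G] [Finite G] (hG : 𝒞 G)
    {F : ∀ (G : Type u) [Group G], Subgroup G → Subgroup G} (hF : IsZJLike p F) (P : Sylow p G)
    {D : Subgroup G} (hD : Cfsg.IsStronglyClosed D (P : Subgroup G)) :
    Controlled F G (P : Subgroup G) D := by
  induction hn : Nat.card G using Nat.strong_induction_on generalizing G F with
  | _ n ih =>
  subst hn
  intro A hA g hAg
  set X := normalizer (F G D : Set G) with hX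
  have hPX : (P : Subgroup G) ≤ X := hF.sylow_le_normalizer hD
  by_cases hD1 : D = ⊥
  · refine Ctl.of_mem ?_
    rw [hX, hD1, hF.apply_bot]
    exact (normalizer_eq_top (H := (⊥ : Subgroup G))).symm ▸ mem_top g
  -- proper subgroups
  have hlow : ∀ H : Subgroup G, H ≠ ⊤ → ∀ T : Subgroup G, T ≤ (P : Subgroup G) → T ≤ H →
      ¬ p ∣ T.relIndex H → ∀ B : Set G, B ⊆ T → ∀ h ∈ H, (∀ b ∈ B, h * b * h⁻¹ ∈ T) →
        Ctl (H ⊓ normalizer (F G (D ⊓ T) : Set G)) B h := by
    intro H hH T hTP hTH hidx B hB h hh hBh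
    obtain ⟨S, hS⟩ := ConjFun.exists_sylow_eq (P.2.to_le hTP) hidx
    obtain ⟨y, hy, he⟩ := ih _ (ConjFun.card_lt_of_ne_top hH) (hsub G H hG) hF S
      (D := (D ⊓ T).subgroupOf H) (hS ▸ stronglyClosed_subgroupOf hD hTP H) rfl
      (H.subtype ⁻¹' B) (fun b hb => by rw [hS]; exact hB hb) ⟨h, hh⟩
      (fun b hb => by rw [hS]; exact hBh b hb)
    refine ⟨y, ⟨y.2, ?_⟩, fun b hb => congrArg Subtype.val (he ⟨b, hTH (hB hb)⟩ hb)⟩
    have e : (F H ((D ⊓ T).subgroupOf H)).map H.subtype = F G (D ⊓ T) := by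
      rw [← hF.map_subtype, map_subgroupOf_eq_of_le (inf_le_right.trans hTH)]
    rw [← e]
    exact le_normalizer_map H.subtype ⟨y, hy, rfl⟩
  have hover : ∀ H : Subgroup G, (P : Subgroup G) ≤ H → H ≠ ⊤ → ∀ E : Subgroup G,
      E ≤ (P : Subgroup G) → ∀ x ∈ H, (∀ e ∈ E, x * e * x⁻¹ ∈ (P : Subgroup G)) →
        Ctl X (E : Set G) x := by
    intro H hPH hH E hE x hx hEx
    refine (hlow H hH _ le_rfl hPH
      (fun hd => P.not_dvd_index (hd.trans (relIndex_dvd_index_of_le hPH))) _ hE x hx hEx).mono ?_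
      subset_rfl
    rw [inf_eq_left.2 hD.1]
    exact inf_le_right
  -- `O_{p'}(G) = 1`
  by_cases hO : Cfsg.pPrimeCore p G ≠ ⊥
  · set M := Cfsg.pPrimeCore p G
    have hMc : (Nat.card M).Coprime p := PCore.coprime_card_pPrimeCore
    set π := QuotientGroup.mk' M
    have hinj := Replacement.injOn_mk_pPrimeCore P.2
    obtain ⟨y, hy, he⟩ := ih _ (ConjFun.card_quotient_lt hO) (hquot G M (Or.inl hMc) hG) hF
      (P.mapSurjective (QuotientGroup.mk'_surjective M)) (D := D.map π)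
      (stronglyClosed_map P hD M) rfl (π '' A)
      (by rintro _ ⟨a, ha, rfl⟩; exact mem_map_of_mem π (hA ha)) (π g)
      (by rintro _ ⟨a, ha, rfl⟩; exact ⟨_, hAg a ha, by rw [map_mul, map_mul, map_inv]⟩)
    rw [hF.map G _ π D fun x hx => hinj x (hD.1 hx)] at hy
    obtain ⟨x, hx, rfl⟩ :=
      PComplement.normalizer_map_le M hMc _ (P.2.to_le ((hF.le G D).trans hD.1)) hy
    refine ctl_of_mk_eq P.2 hPX M hMc hA hAg hx fun a ha => ?_
    have h' := he _ ⟨a, ha, rfl⟩
    simp only [map_mul, map_inv]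
    exact h'
  push Not at hO
  set Q := Cfsg.pCore p G with hQ
  by_cases hQ1 : Q = ⊥
  · -- all local subgroups are proper
    have hW := isConjugacyFunctor_wFun hF D
    have hfam := Transfer.familyControlsStrongFusionIn_top_of_local
      (Transfer.isGoodPred_fullyNormalized P) (𝓦 := {wFun F D})
      (fun W hW' => by obtain rfl : W = wFun F D := hW'; exact hW) fun E hEP hE1 hEg => by
        have hH : normalizer (E : Set G) ≠ ⊤ := fun he => hE1 (le_bot_iff.1 (hQ1 ▸
          (haveI := normalizer_eq_top_iff.1 he; PCore.le_pCore (P.2.to_le hEP))))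
        refine Transfer.controlsStrongFusionIn_iff_singleton.1
          ⟨(P : Subgroup G) ⊓ normalizer (E : Set G), inf_le_right, P.2.to_le inf_le_left, hEg,
            fun B h hh hB hBh => ?_⟩
        obtain ⟨y, hy, he⟩ := hlow _ hH _ inf_le_left inf_le_right hEg B hB h hh
          fun b hb => hBh ⟨b, hb, rfl⟩
        refine ⟨y, ?_, fun b hb => (he b hb).symm⟩
        rwa [wFun_eq hD inf_le_left (inf_ne_bot_of_stronglyClosed P.2 hD hD1
          (le_inf inf_le_left (inf_le_right.trans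
            ((centralizer_le hEP).trans (centralizer_le_normalizer _)))))]
    obtain ⟨x, hx, c, hc, rfl⟩ := (Transfer.controlsStrongFusionIn_top_iff P hW).1
      (Transfer.controlsStrongFusionIn_iff_singleton.2 hfam) (closure A) g ((closure_le _).2 hA) (by
        rw [Transfer.conjMap, MonoidHom.map_closure, closure_le]
        rintro _ ⟨a, ha, rfl⟩
        exact hAg a ha)
    rw [wFun_eq hD le_rfl (by rwa [inf_eq_left.2 hD.1]), inf_eq_left.2 hD.1] at hx
    refine ⟨x, hx, fun a ha => ?_⟩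
    have h1 := mem_centralizer_iff.1 hc a (subset_closure ha)
    calc x * c * a * (x * c)⁻¹ = x * (c * a) * c⁻¹ * x⁻¹ := by group
      _ = x * (a * c) * c⁻¹ * x⁻¹ := by rw [h1]
      _ = _ := by group
  by_cases hCQ : centralizer (Q : Set G) ≤ Q
  · refine Ctl.of_mem ?_
    haveI := hF.normal G P D hD (hst G hG P hCQ) hCQ
    rw [hX, normalizer_eq_top]
    exact mem_top g
  have hRQ := inf_centralizer_not_le P hO hCQ
  have hQP : Q ≤ (P : Subgroup G) := PCore.pCore_le_sylow P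
  set π := QuotientGroup.mk' Q
  have hsurj : Function.Surjective π := QuotientGroup.mk'_surjective Q
  by_cases hPC : (P : Subgroup G) ⊔ centralizer (Q : Set G) = ⊤
  · -- `G = P C(Q)`
    set Pb := P.mapSurjective hsurj with hPb
    have ecoe : (Pb : Subgroup (G ⧸ Q)) = (P : Subgroup G).map π := rfl
    have hPbne : (Pb : Subgroup (G ⧸ Q)) ≠ ⊥ := by
      rw [ecoe, Ne, Subgroup.map_eq_bot_iff, QuotientGroup.ker_mk']
      exact fun h' => hRQ (inf_le_left.trans h')
    have hA' := isZJLike_A.{u} h2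
    set Z := zjA (G ⧸ Q) (Pb : Subgroup (G ⧸ Q)) with hZ
    have hctlq := ih _ (ConjFun.card_quotient_lt hQ1) (hquot G Q (Or.inr ⟨PCore.isPGroup_pCore, centralizes_of_sup_eq_top P hPC⟩) hG) hA' Pb
      (D := (Pb : Subgroup (G ⧸ Q))) (Replacement.isStronglyClosed_self _) rfl
    set V := Z.comap π with hV
    have hNV : normalizer (V : Set G) = (normalizer (Z : Set (G ⧸ Q))).comap π :=
      (comap_normalizer_eq_of_surjective Z hsurj).symm
    have hPV : (P : Subgroup G) ≤ normalizer (V : Set G) := fun x hx => by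
      rw [hNV]
      exact hA'.sylow_le_normalizer (Replacement.isStronglyClosed_self _)
        (ecoe ▸ (⟨x, hx, rfl⟩ : π x ∈ (P : Subgroup G).map π))
    have hVP : V ≤ (P : Subgroup G) := by
      refine (comap_mono (hA'.le _ _)).trans ?_
      rw [ecoe, comap_map_eq, QuotientGroup.ker_mk', sup_eq_left.2 hQP]
    have hQV : Q ≤ V := (QuotientGroup.ker_mk' Q).ge.trans (MonoidHom.ker_le_comap _ _)
    have hne : normalizer (V : Set G) ≠ ⊤ := by
      rw [hNV]
      intro he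
      have he' : normalizer (Z : Set (G ⧸ Q)) = ⊤ := by
        rw [← map_comap_eq_self_of_surjective hsurj (normalizer (Z : Set (G ⧸ Q))), he,
          map_top_of_surjective _ hsurj]
      haveI := normalizer_eq_top_iff.1 he'
      have := PCore.le_pCore (Pb.2.to_le (hA'.le _ _) : IsPGroup p Z)
      rw [PCore.pCore_quotient_self_eq_bot, le_bot_iff] at this
      exact hA'.ne_bot _ _ Pb.2 hPbne this
    have hq : ∀ E : Subgroup G, E ≤ (P : Subgroup G) → ∀ x ∈ normalizer (E : Set G),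
        ∃ n ∈ normalizer (V : Set G), ∀ e ∈ E, π (x * e * x⁻¹) = π (n * e * n⁻¹) := by
      intro E hE x hx
      obtain ⟨y, hy, he⟩ := hctlq (π '' (E : Set G))
        (by rintro _ ⟨a, ha, rfl⟩; exact mem_map_of_mem π (hE ha)) (π x)
        (by rintro _ ⟨a, ha, rfl⟩; exact ⟨_, hE ((mem_normalizer_iff.1 hx a).1 ha), by simp⟩)
      obtain ⟨n, rfl⟩ := hsurj y
      exact ⟨n, by rw [hNV]; exact hy, fun e he' => by simpa using he _ ⟨e, he', rfl⟩⟩
    refine ctl_of_chainUpTo (fun E hE x hx => ?_) (Transfer.alperin_goldschmidt P A g⁻¹ hA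
      fun a ha => by rw [inv_inv]; exact hAg a ha)
    exact hover _ hPV hne E hE.1 x (member_le_normalizer P hPC hQV hVP hPV hq hE hx) fun e he =>
      hE.1 ((mem_normalizer_iff.1 hx e).1 he)
  -- `P C(Q) < G`
  set Y := Q ⊔ centralizer (Q : Set G) with hY
  haveI : Y.Normal := inferInstance
  set R := (P : Subgroup G) ⊓ Y with hR
  have hYPC : Y ≤ (P : Subgroup G) ⊔ centralizer (Q : Set G) := sup_le_sup_right hQP _
  have hPR : (P : Subgroup G) ≤ normalizer (R : Set G) := fun x hx =>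
    inf_normalizer_le_normalizer_inf ⟨le_normalizer hx, (normalizer_eq_top (H := Y)).symm ▸ mem_top x⟩
  have hRne : normalizer (R : Set G) ≠ ⊤ := by
    intro he
    haveI := normalizer_eq_top_iff.1 he
    refine hRQ (le_trans (inf_le_inf_left _ ?_) (PCore.le_pCore (N := R) (P.2.to_le inf_le_left)))
    exact le_sup_right
  suffices key : ∀ k, ∀ E : Subgroup G, IsGoldschmidt P E →
      Nat.card (P : Subgroup G) - Nat.card E = k →
      ∀ x ∈ normalizer (E : Set G), Ctl X (E : Set G) x from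
    ctl_of_chainUpTo (fun E hE => key _ E hE rfl) (Transfer.alperin_goldschmidt P A g⁻¹ hA
      fun a ha => by rw [inv_inv]; exact hAg a ha)
  intro k
  induction k using Nat.strong_induction_on with
  | _ k IH =>
  intro E hE hk x hx
  have hxE : ∀ e ∈ E, x * e * x⁻¹ ∈ E := fun e he => (mem_normalizer_iff.1 hx e).1 he
  by_cases hRE : R ≤ E
  · have hEY : E ⊓ Y = R := le_antisymm (inf_le_inf_right _ hE.1) (le_inf hRE inf_le_right)
    refine hover _ hPR hRne E hE.1 x ?_ fun e he => hE.1 (hxE e he)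
    rw [← hEY]
    exact inf_normalizer_le_normalizer_inf ⟨hx, (normalizer_eq_top (H := Y)).symm ▸ mem_top x⟩
  set N := normalizer (E : Set G) with hN
  set R' := (P : Subgroup G) ⊓ N ⊓ Y with hR'
  have hR'E : ¬ R' ≤ E := fun h => hRE (le_of_inf_normalizer_le P.2 inf_le_left hE.1 hPR
    fun z hz => h ⟨⟨hz.1.1, hz.2⟩, hz.1.2⟩)
  set S : Sylow p N :=
    (P.2.to_le (inf_le_left : (P : Subgroup G) ⊓ N ≤ _)).comap_subtype.toSylow hE.2.2.2 with hS
  obtain ⟨c, hc, n, hn, hcn⟩ := mem_sup_of_normal_left.1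
    ((Transfer.sup_normalizer_inf_eq_top S (Y.subgroupOf N)).symm ▸ mem_top (⟨x, hx⟩ : N))
  have hnR' : (n : G) ∈ normalizer (R' : Set G) := by
    have h := le_normalizer_map N.subtype ⟨n, hn, rfl⟩
    have e : ((S : Subgroup N) ⊓ Y.subgroupOf N).map N.subtype = R' := by
      rw [show (S : Subgroup N) = ((P : Subgroup G) ⊓ N).subgroupOf N from rfl]
      ext z
      constructor
      · rintro ⟨w, hw, rfl⟩
        exact ⟨hw.1, hw.2⟩
      · exact fun hz => ⟨⟨z, hz.1.2⟩, ⟨hz.1, hz.2⟩, rfl⟩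
    rwa [e] at h
  set B := E ⊔ R' with hB
  have hBP : B ≤ (P : Subgroup G) := sup_le hE.1 (inf_le_left.trans inf_le_left)
  have hlt : E < B := left_lt_sup.2 hR'E
  have hnB : (n : G) ∈ normalizer (B : Set G) := by
    refine PGroup.mem_normalizer_of_map_conj_eq ?_
    rw [hB, Subgroup.map_sup, PGroup.map_conj_eq_of_mem_normalizer n.2,
      PGroup.map_conj_eq_of_mem_normalizer hnR']
  have hctn : Ctl X (E : Set G) (n : G) := by
    refine Ctl.mono (A := (B : Set G)) ?_ le_rfl hlt.le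
    have hnB' : ∀ b ∈ B, (n : G) * b * (n : G)⁻¹ ∈ B := fun b hb => (mem_normalizer_iff.1 hnB b).1 hb
    obtain ⟨c', hc', hch⟩ := Transfer.alperin_goldschmidt P (B : Set G) (n : G)⁻¹ hBP
      fun b hb => by rw [inv_inv]; exact hBP (hnB' b hb)
    refine ctl_of_chainUpTo (fun D' hD' => IH _ ?_ D' hD'.1 rfl)
      ⟨c', hc', hch.strengthen (Nat.card B) (Nat.card_coe_set_eq (B : Set G)).le⟩
    have h1 : Nat.card E < Nat.card B := by
      by_contra hh
      exact hlt.ne (eq_of_le_of_card_ge hlt.le (not_lt.1 hh))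
    have h2' := hD'.2
    have h3 := card_le_of_le hD'.1.1
    omega
  have hctc : Ctl X (E : Set G) (c : G) :=
    hover _ le_sup_left hPC E hE.1 c (hYPC (mem_subgroupOf.1 hc)) fun e he =>
      hE.1 ((mem_normalizer_iff.1 c.2 e).1 he)
  have hx' : x = (c : G) * (n : G) := (congrArg Subtype.val hcn).symm
  rw [hx']
  exact hctn.comp hctc fun e he => (mem_normalizer_iff.1 n.2 e).1 he

/-- **Control of strong fusion by `N(F D)`.** -/
theorem controlled_of_stableClass (h2 : p ≠ 2) (𝒞 : ∀ (G : Type u) [Group G], Prop)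
    (hsub : ∀ (G : Type u) [Group G] [Finite G] (H : Subgroup G), 𝒞 G → 𝒞 ↥H)
    (hquot : ∀ (G : Type u) [Group G] [Finite G] (N : Subgroup G) [N.Normal], 𝒞 G → 𝒞 (G ⧸ N))
    (hst : ∀ (G : Type u) [Group G] [Finite G], 𝒞 G → ∀ S : Sylow p G,
      centralizer (Cfsg.pCore p G : Set G) ≤ Cfsg.pCore p G → StableOn p (S : Subgroup G))
    {G : Type u} [Group G] [Finite G] (hG : 𝒞 G)
    {F : ∀ (G : Type u) [Group G], Subgroup G → Subgroup G} (hF : IsZJLike p F) (P : Sylow p G)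
    {D : Subgroup G} (hD : Cfsg.IsStronglyClosed D (P : Subgroup G)) :
    Controlled F G (P : Subgroup G) D :=
  controlled_of_restrictedClass h2 𝒞 hsub (fun G _ _ N _ _ hN => hquot G N hN) hst hG hF P hD

end Cfsg.Agent.ZJControl
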