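import Cfsg.Agent.Lib.ZJControl.Complement

/-!
# The Glauberman–Thompson criterion for an axiomatic family

For a family `𝒜` of abelian subgroups of a Sylow subgroup `P` such that the intersection of the
members inside `Q ≤ P` is invariant under `N(Q)` and with replacement:

* `sInf_normal_of_inv`: the intersection is normal under stability and constraint;
* `hasNormalPComplement_of_family`: if `C(O_p G) ≤ O_p G` and `N(⋂ 𝒜)` has a normal
  `p`-complement then so has `G` (`p` odd).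
-/

set_option autoImplicit false
set_option linter.style.haveILetI false

namespace Cfsg.Agent.ZJControl

open Subgroup
open scoped commutatorElement
open Cfsg.Agent.Replacement (StableOn)

universe u

variable {G : Type u} [Group G]

/-- The intersection of the members inside `Q` is invariant under `N(Q)`, for `Q ≤ P` containing
a member. -/
def FamInv (P : Subgroup G) (𝒜 : Set (Subgroup G)) : Prop :=
  ∀ Q : Subgroup G, Q ≤ P → (∃ A ∈ 𝒜, A ≤ Q) → ∀ n ∈ normalizer (Q : Set G),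
    ∀ x ∈ sInf {A | A ∈ 𝒜 ∧ A ≤ Q}, n * x * n⁻¹ ∈ sInf {A | A ∈ 𝒜 ∧ A ≤ Q}

/-- Replacement. -/
def FamRep (P : Subgroup G) (𝒜 : Set (Subgroup G)) : Prop :=
  ∀ B : Subgroup G, B ≤ P → ⁅⁅B, B⁆, B⁆ = ⊥ → (∃ U ∈ 𝒜, ⁅B, B⁆ ≤ U ∧ ¬ B ≤ U) →
    ∃ A ∈ 𝒜, ⁅B, B⁆ ≤ A ∧ ¬ B ≤ A ∧ B ≤ normalizer (A : Set G)

theorem famInv_normalizer_le {P : Subgroup G} {𝒜 : Set (Subgroup G)} (hne : 𝒜.Nonempty)
    (hle : ∀ A ∈ 𝒜, A ≤ P) (hinv : FamInv P 𝒜) :
    normalizer (P : Set G) ≤ normalizer ((sInf 𝒜 : Subgroup G) : Set G) := by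
  obtain ⟨A, hA⟩ := hne
  have e : {X | X ∈ 𝒜 ∧ X ≤ P} = 𝒜 := Set.ext fun X => ⟨And.left, fun h => ⟨h, hle X h⟩⟩
  have key : ∀ g ∈ normalizer (P : Set G), ∀ w ∈ sInf 𝒜, g * w * g⁻¹ ∈ sInf 𝒜 := by
    intro g hg w hw
    have h := hinv P le_rfl ⟨A, hA, hle A hA⟩ g hg w (by rwa [e])
    rwa [e] at h
  intro g hg
  rw [mem_normalizer_iff]
  exact fun w => ⟨key g hg w, fun h => by simpa [mul_assoc] using key g⁻¹ (inv_mem hg) _ h⟩

variable [Finite G] {p : ℕ} [hp : Fact p.Prime]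

theorem inf_normal_of_inv (S : Sylow p G) (hst : StableOn p (S : Subgroup G))
    (𝒜 : Set (Subgroup G)) (hne : 𝒜.Nonempty) (hle : ∀ A ∈ 𝒜, A ≤ (S : Subgroup G))
    (hab : ∀ A ∈ 𝒜, IsMulCommutative A) (hinv : FamInv (S : Subgroup G) 𝒜)
    (hrep : FamRep (S : Subgroup G) 𝒜)
    (B : Subgroup G) (hBn : B.Normal) (hB : IsPGroup p B) : (B ⊓ sInf 𝒜).Normal := by
  induction hn : Nat.card B using Nat.strong_induction_on generalizing B with
  | _ k ih =>
  subst hn
  haveI := hBn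
  have hlt : ∀ T : Subgroup G, T.Normal → T ≤ B → T ≠ B → (T ⊓ sInf 𝒜).Normal :=
    fun T hT hTB hne' =>
      ih _ (lt_of_not_ge fun h => hne' (eq_of_le_of_card_ge hTB h)) T hT (hB.to_le hTB) rfl
  by_cases hgen : normalClosure ((B ⊓ sInf 𝒜 : Subgroup G) : Set G) ≠ B
  · exact Replacement.inf_normal_of_normalClosure_le hlt hgen
  push Not at hgen
  by_cases hbot : B = ⊥
  · rw [hbot, bot_inf_eq]; infer_instance
  have hWS := (le_normalizer (H := (S : Subgroup G))).trans (famInv_normalizer_le hne hle hinv)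
  obtain ⟨A₀, hA₀⟩ := hne
  have hBS : B ≤ (S : Subgroup G) := hB.le_sylow_of_normal S
  have hWab : IsMulCommutative (sInf 𝒜 : Subgroup G) :=
    PGroup.isMulCommutative_of_forall fun a ha b hb =>
      PGroup.mul_comm_of_isMulCommutative (hab A₀ hA₀) (sInf_le hA₀ ha) (sInf_le hA₀ hb)
  obtain ⟨hBW, hclass⟩ := Replacement.derived_le_inf hBS hWS hWab hgen
    (hlt ⁅B, B⁆ inferInstance (commutator_le_self B) (Replacement.commutator_lt_self hB hbot))
  by_cases hall : ∀ A ∈ 𝒜, B ≤ A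
  · rw [inf_eq_left.2 (le_sInf hall)]; exact hBn
  push Not at hall
  obtain ⟨U, hU, hBU⟩ := hall
  obtain ⟨A, hA, -, hBA, hnorm⟩ := hrep B hBS hclass ⟨U, hU, hBW.trans (sInf_le hU), hBU⟩
  set K := (Cfsg.pCore p (G ⧸ centralizer (B : Set G))).comap
    (QuotientGroup.mk' (centralizer (B : Set G))) with hK
  have hAK : A ≤ K := fun a ha =>
    hst B hB a (hle A hA ha)
      (Replacement.commutator_commutator_zpowers_eq_bot (hab A hA) hnorm ha)
  exfalso
  refine hBA ?_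
  rw [← hgen]
  refine (closure_le A).2 fun x hx => ?_
  obtain ⟨z, hz, hzx⟩ := Group.mem_conjugatesOfSet_iff.1 hx
  obtain ⟨g, rfl⟩ := isConj_iff.1 hzx
  rw [SetLike.mem_coe, Subgroup.mem_inf] at hz
  obtain ⟨n, hn, c, hc, rfl⟩ := Replacement.exists_normalizer_mul_centralizer S B g
  have hcz : c * z * c⁻¹ = z := by
    rw [← mem_centralizer_iff.1 hc z hz.1, mul_inv_cancel_right]
  have hmem : A ∈ {X | X ∈ 𝒜 ∧ X ≤ (S : Subgroup G) ⊓ K} := ⟨hA, le_inf (hle A hA) hAK⟩
  have hQ := hinv ((S : Subgroup G) ⊓ K) inf_le_left ⟨A, hmem⟩ n hn z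
    (mem_sInf.2 fun X hX => mem_sInf.1 hz.2 X hX.1)
  have h' := sInf_le hmem hQ
  rw [SetLike.mem_coe,
    show n * c * z * (n * c)⁻¹ = n * (c * z * c⁻¹) * n⁻¹ by simp [mul_assoc], hcz]
  exact h'

/-- The generic ZJ theorem under the weak invariance. -/
theorem sInf_normal_of_inv (S : Sylow p G) (hst : StableOn p (S : Subgroup G))
    (hc : centralizer (Cfsg.pCore p G : Set G) ≤ Cfsg.pCore p G) (𝒜 : Set (Subgroup G))
    (hne : 𝒜.Nonempty) (hle : ∀ A ∈ 𝒜, A ≤ (S : Subgroup G))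
    (hab : ∀ A ∈ 𝒜, IsMulCommutative A) (hinv : FamInv (S : Subgroup G) 𝒜)
    (hrep : FamRep (S : Subgroup G) 𝒜) : (sInf 𝒜).Normal := by
  obtain ⟨A₀, hA₀⟩ := id hne
  have hWn : (S : Subgroup G) ≤ normalizer ((sInf 𝒜 : Subgroup G) : Set G) :=
    le_normalizer.trans (famInv_normalizer_le hne hle hinv)
  have hWO : sInf 𝒜 ≤ Cfsg.pCore p G := by
    intro w hw
    have hq := Replacement.commutator_commutator_zpowers_eq_bot
      (PGroup.isMulCommutative_of_forall fun a ha b hb =>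
        PGroup.mul_comm_of_isMulCommutative (hab A₀ hA₀) (sInf_le hA₀ ha) (sInf_le hA₀ hb))
      ((PCore.pCore_le_sylow S).trans hWn) hw
    have := hst (Cfsg.pCore p G) PCore.isPGroup_pCore w (hle A₀ hA₀ (sInf_le hA₀ hw)) hq
    rwa [PCore.comap_pCore_quotient _ (PCore.isPGroup_pCore.to_le hc)] at this
  rw [← inf_eq_right.2 hWO]
  exact inf_normal_of_inv S hst 𝒜 hne hle hab hinv hrep _ inferInstance PCore.isPGroup_pCore

omit [Finite G] in
theorem map_sInf_subgroupOf {H : Subgroup G} {𝒜 : Set (Subgroup G)} (hne : 𝒜.Nonempty)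
    (hle : ∀ A ∈ 𝒜, A ≤ H) :
    (sInf ((fun A : Subgroup G => A.subgroupOf H) '' 𝒜)).map H.subtype = sInf 𝒜 := by
  refine le_antisymm ?_ fun x hx => ?_
  · rintro _ ⟨x, hx, rfl⟩
    exact mem_sInf.2 fun A hA => mem_subgroupOf.1 (mem_sInf.1 hx _ ⟨A, hA, rfl⟩)
  · obtain ⟨A₀, hA₀⟩ := hne
    refine ⟨⟨x, hle A₀ hA₀ (sInf_le hA₀ hx)⟩, mem_sInf.2 ?_, rfl⟩
    rintro _ ⟨A, hA, rfl⟩
    exact mem_subgroupOf.2 (sInf_le hA hx)

omit [Finite G] hp in
theorem famInv_subgroupOf {H P : Subgroup G} {𝒜 : Set (Subgroup G)} (hPH : P ≤ H)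
    (hle : ∀ A ∈ 𝒜, A ≤ P) (hinv : FamInv P 𝒜) :
    FamInv (P.subgroupOf H) ((fun A : Subgroup G => A.subgroupOf H) '' 𝒜) := by
  intro Q hQ hex n hn x hx
  obtain ⟨_, ⟨A₀, hA₀, rfl⟩, hA₀Q⟩ := hex
  have hQP : Q.map H.subtype ≤ P := by
    rintro _ ⟨y, hy, rfl⟩
    exact hQ hy
  have hA₀' : A₀ ≤ Q.map H.subtype := fun a ha =>
    ⟨⟨a, hPH (hle A₀ hA₀ ha)⟩, hA₀Q (mem_subgroupOf.2 ha), rfl⟩
  have hn' : (n : G) ∈ normalizer ((Q.map H.subtype : Subgroup G) : Set G) :=
    le_normalizer_map H.subtype ⟨n, hn, rfl⟩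
  have h := hinv _ hQP ⟨A₀, hA₀, hA₀'⟩ (n : G) hn' (x : G) (mem_sInf.2 fun A hA => by
    refine mem_subgroupOf.1 (mem_sInf.1 hx _ ⟨⟨A, hA.1, rfl⟩, fun a ha => ?_⟩)
    obtain ⟨b, hb, hba⟩ := hA.2 (mem_subgroupOf.1 ha)
    rwa [← H.subtype_injective hba])
  refine mem_sInf.2 ?_
  rintro _ ⟨⟨A, hA, rfl⟩, hAQ⟩
  refine mem_subgroupOf.2 (mem_sInf.1 h A ⟨hA, fun a ha => ?_⟩)
  exact ⟨⟨a, hPH (hle A hA ha)⟩, hAQ (mem_subgroupOf.2 ha), rfl⟩

omit [Finite G] hp in
theorem famRep_subgroupOf {H P : Subgroup G} {𝒜 : Set (Subgroup G)} (hPH : P ≤ H)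
    (hle : ∀ A ∈ 𝒜, A ≤ P) (hrep : FamRep P 𝒜) :
    FamRep (P.subgroupOf H) ((fun A : Subgroup G => A.subgroupOf H) '' 𝒜) := by
  rintro B hB hcl ⟨_, ⟨U, hU, rfl⟩, hBU, hnBU⟩
  have hUH : U ≤ H := (hle U hU).trans hPH
  have hBP : B.map H.subtype ≤ P := by
    rintro _ ⟨y, hy, rfl⟩
    exact hB hy
  obtain ⟨A, hA, h1, h2, h3⟩ := hrep _ hBP
    (by rw [← map_commutator, ← map_commutator, hcl, Subgroup.map_bot])
    ⟨U, hU, by
      rw [← map_commutator, map_le_iff_le_comap]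
      exact hBU, fun h => hnBU fun b hb => mem_subgroupOf.2 (h ⟨b, hb, rfl⟩)⟩
  refine ⟨_, ⟨A, hA, rfl⟩, ?_, fun h => h2 ?_, fun b hb => ?_⟩
  · rw [← map_commutator, map_le_iff_le_comap] at h1
    exact h1
  · rintro _ ⟨y, hy, rfl⟩
    exact mem_subgroupOf.1 (h hy)
  · refine mem_normalizer_iff.2 fun a => ?_
    have := mem_normalizer_iff.1 (h3 (⟨b, hb, rfl⟩ : (b : G) ∈ B.map H.subtype)) (a : G)
    exact this

/-- **Glauberman–Thompson for an axiomatic family.** -/
theorem hasNormalPComplement_of_family (h2 : p ≠ 2) (P : Sylow p G)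
    (hcent : centralizer (Cfsg.pCore p G : Set G) ≤ Cfsg.pCore p G) (𝒜 : Set (Subgroup G))
    (hne : 𝒜.Nonempty) (hle : ∀ A ∈ 𝒜, A ≤ (P : Subgroup G))
    (hab : ∀ A ∈ 𝒜, IsMulCommutative A) (hinv : FamInv (P : Subgroup G) 𝒜)
    (hrep : FamRep (P : Subgroup G) 𝒜)
    (h : Cfsg.HasNormalPComplement p ↥(normalizer ((sInf 𝒜 : Subgroup G) : Set G))) :
    Cfsg.HasNormalPComplement p G := by
  induction hn : Nat.card G using Nat.strong_induction_on generalizing G with
  | _ n ih =>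
  subst hn
  by_contra hbad
  have htop : normalizer ((sInf 𝒜 : Subgroup G) : Set G) ≠ ⊤ := fun he => hbad <|
    Transfer.hasNormalPComplement_of_injective
      ((MonoidHom.id G).codRestrict (normalizer ((sInf 𝒜 : Subgroup G) : Set G))
        fun x => he ▸ mem_top x)
      (fun a b hab => congrArg Subtype.val hab :) h
  set U := Cfsg.pCore p G with hU
  have hUP : U ≤ (P : Subgroup G) := PCore.pCore_le_sylow P
  -- overgroups of `P`
  have hover : ∀ H : Subgroup G, (P : Subgroup G) ≤ H → H ≠ ⊤ →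
      Cfsg.HasNormalPComplement p H := by
    intro H hPH hH
    have hUH : U.subgroupOf H ≤ Cfsg.pCore p ↥H :=
      PCore.le_pCore (PCore.isPGroup_pCore.of_equiv (subgroupOfEquivOfLe (hUP.trans hPH)).symm)
    refine ih _ (ConjFun.card_lt_of_ne_top hH) (P.subtype hPH) ?_
      ((fun A : Subgroup G => A.subgroupOf H) '' 𝒜) (hne.image _) ?_ ?_ ?_ ?_ ?_ rfl
    · intro x hx
      refine hUH (mem_subgroupOf.2 (hcent (mem_centralizer_iff.2 fun u hu => ?_)))
      exact congrArg Subtype.val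
        (mem_centralizer_iff.1 hx ⟨u, hPH (hUP hu)⟩ (hUH (mem_subgroupOf.2 hu)))
    · rintro _ ⟨A, hA, rfl⟩
      rw [Sylow.coe_subtype]
      exact comap_mono (hle A hA)
    · rintro _ ⟨A, hA, rfl⟩
      exact PGroup.isMulCommutative_of_forall fun a ha b hb => Subtype.ext
        (PGroup.mul_comm_of_isMulCommutative (hab A hA) ha hb)
    · rw [Sylow.coe_subtype]
      exact famInv_subgroupOf hPH hle hinv
    · rw [Sylow.coe_subtype]
      exact famRep_subgroupOf hPH hle hrep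
    · refine Transfer.hasNormalPComplement_of_injective
        (((H.subtype).domRestrict _).codRestrict (normalizer ((sInf 𝒜 : Subgroup G) : Set G))
          fun x => ?_)
        (fun a b hab => Subtype.ext (Subtype.ext (congrArg Subtype.val hab :))) h
      rw [← map_sInf_subgroupOf hne fun A hA => (hle A hA).trans hPH]
      exact le_normalizer_map H.subtype ⟨x, x.2, rfl⟩
  have hO : Cfsg.pPrimeCore p G = ⊥ := by
    have hdisj : Disjoint U (Cfsg.pPrimeCore p G) :=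
      PCore.disjoint_of_isPGroup_of_coprime PCore.isPGroup_pCore PCore.coprime_card_pPrimeCore
    have hle' : Cfsg.pPrimeCore p G ≤ centralizer (U : Set G) := fun x hx =>
      mem_centralizer_iff.2 fun u hu =>
        commute_of_normal_of_disjoint U (Cfsg.pPrimeCore p G) inferInstance inferInstance hdisj u x
          hu hx
    exact disjoint_self.1 (hdisj.mono_left (hle'.trans hcent))
  have hUne : U ≠ (P : Subgroup G) := by
    intro he
    apply htop
    refine eq_top_iff.2 fun x _ => famInv_normalizer_le hne hle hinv ?_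
    rw [← he, normalizer_eq_top]
    exact mem_top x
  set π := QuotientGroup.mk' U
  have hsurj : Function.Surjective π := QuotientGroup.mk'_surjective U
  set Pb := P.mapSurjective hsurj with hPb
  have ecoe : (Pb : Subgroup (G ⧸ U)) = (P : Subgroup G).map π := rfl
  have hPbne : (Pb : Subgroup (G ⧸ U)) ≠ ⊥ := by
    rw [ecoe, Ne, Subgroup.map_eq_bot_iff, QuotientGroup.ker_mk']
    exact fun h' => hUne (le_antisymm hUP h')
  set X := Cfsg.centerThompsonAOf (Pb : Subgroup (G ⧸ U)) with hX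
  have hGU : Cfsg.HasNormalPComplement p (G ⧸ U) := by
    refine PComplement.zjAComplement h2 Pb ?_
    have hPN : (P : Subgroup G) ≤ (normalizer (X : Set (G ⧸ U))).comap π := fun x hx =>
      (isZJLike_A h2).sylow_le_normalizer (Replacement.isStronglyClosed_self _)
        (ecoe ▸ (⟨x, hx, rfl⟩ : π x ∈ (P : Subgroup G).map π))
    have hne' : (normalizer (X : Set (G ⧸ U))).comap π ≠ ⊤ := by
      intro he
      have he' : normalizer (X : Set (G ⧸ U)) = ⊤ := by
        rw [← map_comap_eq_self_of_surjective hsurj (normalizer (X : Set (G ⧸ U))), he,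
          map_top_of_surjective _ hsurj]
      haveI := normalizer_eq_top_iff.1 he'
      have hXp : IsPGroup p X := Pb.2.to_le ((isZJLike_A h2).le _ _)
      have := PCore.le_pCore hXp
      rw [PCore.pCore_quotient_self_eq_bot, le_bot_iff] at this
      exact (isZJLike_A h2).ne_bot _ _ Pb.2 hPbne this
    have h1 := hover _ hPN hne'
    have h2' := Transfer.hasNormalPComplement_of_surjective
      (π.subgroupMap ((normalizer (X : Set (G ⧸ U))).comap π)) (π.subgroupMap_surjective _) h1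
    exact Transfer.hasNormalPComplement_of_le
      (map_comap_eq_self_of_surjective hsurj _).ge h2'
  have hcfg := config_of_overgroups P hO hGU hbad hover
  exact htop (normalizer_eq_top_iff.2
    (sInf_normal_of_inv P (stableOn_of_config hcfg h2) hcfg.cent 𝒜 hne hle hab hinv hrep))

end Cfsg.Agent.ZJControl
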