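import Cfsg.Agent.Lib.ZJControl.Basic
import Cfsg.Agent.Lib.PComplement.GlaubermanThompson

/-!
# The Glauberman–Thompson criterion for strongly closed subgroups

* `config_of_overgroups`, `stableOn_of_config`;
* `hasNormalPComplement_of_normalizer`: for `F` ZJ-like and `D` strongly closed, if `N(F D)` has a
  normal `p`-complement then so has `G` (`p` odd).
-/

set_option autoImplicit false
set_option linter.style.haveILetI false

namespace Cfsg.Agent.ZJControl

open Subgroup
open scoped commutatorElement
open Cfsg.Agent.Replacement (StableOn)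
open Cfsg.Agent.PComplement (Config eq_one_of_mem_sylow)

universe u

variable {p : ℕ} [Fact p.Prime] {G : Type u} [Group G] [Finite G]

/-- The minimal configuration: all proper overgroups of `P` and `G/O_p(G)` have normal
`p`-complements, `G` has none and `O_{p'}(G) = 1`. -/
theorem config_of_overgroups (P : Sylow p G) (hO : Cfsg.pPrimeCore p G = ⊥)
    (hGU : Cfsg.HasNormalPComplement p (G ⧸ Cfsg.pCore p G))
    (hbad : ¬ Cfsg.HasNormalPComplement p G)
    (hover : ∀ H : Subgroup G, (P : Subgroup G) ≤ H → H ≠ ⊤ → Cfsg.HasNormalPComplement p H) :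
    Config p P := by
  have hp : p.Prime := Fact.out
  set U := Cfsg.pCore p G with hU
  have hUP : U ≤ (P : Subgroup G) := PCore.pCore_le_sylow P
  set π := QuotientGroup.mk' U with hπ
  have hsurj : Function.Surjective π := QuotientGroup.mk'_surjective U
  set Pb := P.mapSurjective hsurj with hPb
  set K := Cfsg.pResidual p (G ⧸ U) with hK
  haveI hKn : K.Normal := Transfer.pResidual_normal p
  have hKmem : ∀ x, x ∈ K ↔ (orderOf x).Coprime p := Transfer.mem_pResidual_iff hGU
  have hKcop : (Nat.card K).Coprime p :=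
    (hp.coprime_iff_not_dvd.2 (Transfer.hasNormalPComplement_iff.1 hGU)).symm
  have hcent : centralizer (U : Set G) ≤ U := by
    refine PCore.centralizer_pCore_le ?_ hO
    refine PCore.isPSolvable_of_normal U (PCore.isPSolvable_of_isPGroup PCore.isPGroup_pCore) ?_
    exact PCore.isPSolvable_of_isPGroup_quotient K (PCore.isPSolvable_of_coprime hKcop)
      (Transfer.isPGroup_quotient_pResidual p)
  have hco : IsCoatom (P : Subgroup G) := by
    refine ⟨fun h => hbad ?_, fun L hL => ?_⟩
    · refine Transfer.hasNormalPComplement_of_isPGroup ?_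
      have := P.2
      rw [h] at this
      exact this.of_equiv topEquiv
    by_contra hLtop
    have hLN := hover L hL.le hLtop
    have hmemN : ∀ x, x ∈ Cfsg.pResidual p ↥L ↔ (orderOf x).Coprime p :=
      Transfer.mem_pResidual_iff hLN
    haveI := Transfer.pResidual_normal (G := L) p
    apply hL.not_ge
    have hLp : IsPGroup p L := by
      refine PComplement.isPrimePow_orderOf_of_forall fun x hx hxo => ?_
      refine eq_one_of_mem_sylow (P := P) (hUP (hcent (mem_centralizer_iff.2 fun u hu => ?_))) hxo
      have huL : u ∈ L := hL.le (hUP hu)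
      have hxN : (⟨x, hx⟩ : L) ∈ Cfsg.pResidual p ↥L := (hmemN _).2 (by rwa [orderOf_mk])
      have h1 : ⁅(⟨u, huL⟩ : L), ⟨x, hx⟩⁆ ∈ Cfsg.pResidual p ↥L :=
        commutator_le_right ⊤ _ (commutator_mem_commutator (mem_top _) hxN)
      have h2 : ⁅u, x⁆ ∈ U := commutator_le_left U ⊤ (commutator_mem_commutator hu (mem_top _))
      have h3 := (hmemN _).1 h1
      rw [← Subgroup.orderOf_coe] at h3
      exact commutatorElement_eq_one_iff_mul_comm.1 (eq_one_of_mem_sylow (P := P) (hUP h2) h3)
    rw [P.3 hLp hL.le]
  have hKP : ∀ L : Subgroup (G ⧸ U), L ≤ K → (Pb : Subgroup (G ⧸ U)) ≤ normalizer (L : Set (G ⧸ U)) →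
      L = ⊥ ∨ L = K := by
    intro L hLK hLP
    have h1 : (P : Subgroup G) ≤ ((Pb : Subgroup (G ⧸ U)) ⊔ L).comap π :=
      map_le_iff_le_comap.1 le_sup_left
    rcases hco.le_iff.1 h1 with h | h
    · right
      have htop : (Pb : Subgroup (G ⧸ U)) ⊔ L = ⊤ := by
        rw [← map_comap_eq_self_of_surjective hsurj (_ ⊔ L), h, map_top_of_surjective _ hsurj]
      refine le_antisymm hLK fun x hx => ?_
      obtain ⟨a, ha, l, hl, hal⟩ := (Coprime.mem_sup_iff_of_le_normalizer hLP).1 (htop ▸ mem_top x)
      have haK : a ∈ K := by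
        have := mul_mem hx (inv_mem (hLK hl))
        rwa [← hal, mul_inv_cancel_right] at this
      rw [← hal, eq_one_of_mem_sylow ha ((hKmem a).1 haK), one_mul]
      exact hl
    · left
      rw [eq_bot_iff]
      intro x hx
      have hxP : x ∈ (Pb : Subgroup (G ⧸ U)) := by
        have : x ∈ (((Pb : Subgroup (G ⧸ U)) ⊔ L).comap π).map π := by
          rw [map_comap_eq_self_of_surjective hsurj]; exact mem_sup_right hx
        rwa [h] at this
      exact mem_bot.2 (eq_one_of_mem_sylow hxP ((hKmem x).1 (hLK hx)))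
  have hKab : ∀ x ∈ K, ∀ y ∈ K, x * y = y * x := by
    by_contra hnab
    have hKne : Nat.card K ≠ 1 := by
      intro h
      apply hnab
      intro x hx y hy
      rw [card_eq_one.1 h, mem_bot] at hx
      simp [hx]
    obtain ⟨q, hq, hqd⟩ := Nat.exists_prime_and_dvd hKne
    haveI := Fact.mk hq
    have hcop : (Nat.card ↥(Pb : Subgroup (G ⧸ U))).Coprime (Nat.card K) := by
      obtain ⟨k, hk⟩ := Pb.2.exists_card_eq
      rw [hk]
      exact (hKcop.pow_right k).symm
    haveI : Group.IsNilpotent ↥(Pb : Subgroup (G ⧸ U)) := Pb.2.isNilpotent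
    obtain ⟨R, hR⟩ := Coprime.exists_invariant_sylow (p := q) (A := (Pb : Subgroup (G ⧸ U))) (K := K)
      (by rw [Subgroup.normalizer_eq_top]; exact le_top) hcop (Or.inl inferInstance)
    rcases hKP ((R : Subgroup K).map K.subtype) (map_subtype_le _) hR with h | h
    · rw [Subgroup.map_eq_bot_iff_of_injective _ Subtype.coe_injective] at h
      exact R.ne_bot_of_dvd_card hqd h
    have hKq : IsPGroup q K := h ▸ R.2.map K.subtype
    rcases hKP ⁅K, K⁆ (commutator_le_left K K) (by rw [Subgroup.normalizer_eq_top]; exact le_top) with h | h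
    · apply hnab
      intro x hx y hy
      exact commutatorElement_eq_one_iff_mul_comm.1 (mem_bot.1 (h ▸ commutator_mem_commutator hx hy))
    · exact Replacement.commutator_lt_self hKq (fun hb => hKne (by rw [hb, card_bot])) h
  refine ⟨hco, hcent, fun x y hx hy => ?_⟩
  rw [← QuotientGroup.eq_one_iff]
  show π ⁅x, y⁆ = 1
  rw [map_commutatorElement, commutatorElement_eq_one_iff_mul_comm]
  exact hKab _ ((hKmem _).2 (hx.coprime_dvd_left (orderOf_map_dvd π x))) _
    ((hKmem _).2 (hy.coprime_dvd_left (orderOf_map_dvd π y)))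

/-- The minimal configuration is stable. -/
theorem stableOn_of_config {P : Sylow p G} (h : Config p P) (h2 : p ≠ 2) :
    StableOn p (P : Subgroup G) := by
  intro V hV hVp a ha hq
  have hVP : V ≤ (P : Subgroup G) := (PCore.le_pCore hVp).trans (PCore.pCore_le_sylow P)
  by_cases hC : centralizer (V : Set G) ≤ (P : Subgroup G)
  · have haU := h.mem_core_of_quadratic h2 V hVP hC ha fun b hb => mem_bot.1 (hq ▸
      commutator_mem_commutator (commutator_mem_commutator hb (mem_zpowers a)) (mem_zpowers a))
    exact PCore.map_pCore_le _ (QuotientGroup.mk'_surjective _) ⟨a, haU, rfl⟩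
  · have hle : Cfsg.pResidual p G ≤ centralizer (V : Set G) :=
      (closure_le _).2 fun x hx => h.mem_of_coprime _ hC hx
    haveI := Transfer.pResidual_normal (G := G) p
    have hp' : IsPGroup p (G ⧸ centralizer (V : Set G)) :=
      (Transfer.isPGroup_quotient_pResidual (G := G) p).of_surjective
        (QuotientGroup.map (Cfsg.pResidual p G) (centralizer (V : Set G)) (MonoidHom.id G) hle)
        (fun q => by
          obtain ⟨g, rfl⟩ := QuotientGroup.mk'_surjective _ q
          exact ⟨QuotientGroup.mk g, rfl⟩)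
    show a ∈ (Cfsg.pCore p _).comap _
    rw [PCore.pCore_eq_top_of_isPGroup hp', comap_top]
    exact mem_top a

variable {F : ∀ (G : Type u) [Group G], Subgroup G → Subgroup G}

theorem hasNPC_normalizer_conjMap (m : G) (E : Subgroup G) :
    Cfsg.HasNormalPComplement p ↥(normalizer ((Transfer.conjMap m E : Subgroup G) : Set G)) →
      Cfsg.HasNormalPComplement p ↥(normalizer (E : Set G)) := by
  intro h
  refine Transfer.hasNormalPComplement_of_injective
    (((MulAut.conj m).toMonoidHom.comp (normalizer (E : Set G)).subtype).codRestrict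
      (normalizer ((Transfer.conjMap m E : Subgroup G) : Set G)) fun x => ?_)
    (fun a b hab => Subtype.ext ((MulAut.conj m).injective (congrArg Subtype.val hab :))) h
  rw [Transfer.normalizer_conjMap]
  exact Transfer.conj_mem_conjMap x.2

/-- **Glauberman–Thompson for strongly closed subgroups.** -/
theorem hasNormalPComplement_of_normalizer (hF : IsZJLike p F) (h2 : p ≠ 2) (P : Sylow p G)
    {D : Subgroup G} (hD : Cfsg.IsStronglyClosed D (P : Subgroup G))
    (h : Cfsg.HasNormalPComplement p ↥(normalizer (F G D : Set G))) :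
    Cfsg.HasNormalPComplement p G := by
  induction hn : Nat.card G using Nat.strong_induction_on generalizing G with
  | _ n ih =>
  subst hn
  have hp : p.Prime := Fact.out
  by_contra hbad
  have htop : normalizer (F G D : Set G) ≠ ⊤ := fun he => hbad <|
    Transfer.hasNormalPComplement_of_injective
      ((MonoidHom.id G).codRestrict (normalizer (F G D : Set G)) fun x => he ▸ mem_top x)
      (fun a b hab => congrArg Subtype.val hab :) h
  have hD1 : D ≠ ⊥ := fun hd => htop (by rw [hd, hF.apply_bot]; exact normalizer_eq_top _)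
  -- proper subgroups
  have hsub : ∀ H : Subgroup G, H ≠ ⊤ → ∀ T : Subgroup G, T ≤ (P : Subgroup G) → T ≤ H →
      ¬ p ∣ T.relIndex H →
      Cfsg.HasNormalPComplement p ↥(normalizer (F G (D ⊓ T) : Set G)) →
        Cfsg.HasNormalPComplement p H := by
    intro H hH T hTP hTH hidx hN
    obtain ⟨S, hS⟩ := ConjFun.exists_sylow_eq (P.2.to_le hTP) hidx
    refine ih _ (ConjFun.card_lt_of_ne_top hH) S (D := (D ⊓ T).subgroupOf H)
      (hS ▸ stronglyClosed_subgroupOf hD hTP H) ?_ rfl
    have e : (F H ((D ⊓ T).subgroupOf H)).map H.subtype = F G (D ⊓ T) := by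
      rw [← hF.map_subtype, map_subgroupOf_eq_of_le (inf_le_right.trans hTH)]
    refine Transfer.hasNormalPComplement_of_injective
      (((H.subtype).domRestrict _).codRestrict (normalizer (F G (D ⊓ T) : Set G)) fun x => ?_)
      (fun a b hab => Subtype.ext (Subtype.ext (congrArg Subtype.val hab :))) hN
    rw [← e]
    exact le_normalizer_map H.subtype ⟨x, x.2, rfl⟩
  have hover : ∀ H : Subgroup G, (P : Subgroup G) ≤ H → H ≠ ⊤ →
      Cfsg.HasNormalPComplement p H := fun H hPH hH => hsub H hH _ le_rfl hPH
    (fun hd => P.not_dvd_index (hd.trans (relIndex_dvd_index_of_le hPH)))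
    (by rwa [inf_eq_left.2 hD.1])
  -- `O_{p'}(G) = 1`
  have hO : Cfsg.pPrimeCore p G = ⊥ := by
    by_contra hne
    set M := Cfsg.pPrimeCore p G
    have hMc : (Nat.card M).Coprime p := PCore.coprime_card_pPrimeCore
    set π := QuotientGroup.mk' M
    have hsurj : Function.Surjective π := QuotientGroup.mk'_surjective M
    have hinj := Replacement.injOn_mk_pPrimeCore P.2
    refine hbad (PComplement.hasNormalPComplement_of_quotient M hMc
      (ih _ (ConjFun.card_quotient_lt hne) (P.mapSurjective hsurj) (D := D.map π)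
        (stronglyClosed_map P hD M) ?_ rfl))
    rw [hF.map G _ π D fun x hx => hinj x (hD.1 hx)]
    exact Transfer.hasNormalPComplement_of_le
      (PComplement.normalizer_map_le M hMc _ (P.2.to_le ((hF.le G D).trans hD.1)))
      (Transfer.hasNormalPComplement_of_surjective
        (π.subgroupMap (normalizer (F G D : Set G))) (π.subgroupMap_surjective _) h)
  by_cases hU1 : Cfsg.pCore p G = ⊥
  · -- all local subgroups are proper
    refine hbad (Transfer.hasNormalPComplement_of_normalizer_hasNormalPComplement fun E hE hE1 => ?_)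
    obtain ⟨R, hR⟩ := hE.exists_le_sylow
    obtain ⟨g, hg⟩ := MulAction.exists_smul_eq G R P
    refine hasNPC_normalizer_conjMap g E ?_
    have hEP : Transfer.conjMap g E ≤ (P : Subgroup G) := by
      rw [← hg, Sylow.coe_subgroup_smul]
      exact map_mono hR
    suffices key : ∀ k, ∀ X : Subgroup G, X ≤ (P : Subgroup G) → X ≠ ⊥ →
        Nat.card (P : Subgroup G) -
          Nat.card ↥((P : Subgroup G) ⊓ normalizer (X : Set G)) = k →
        Cfsg.HasNormalPComplement p ↥(normalizer (X : Set G)) from
      key _ _ hEP (by rwa [Ne, ← card_eq_one, Transfer.card_conjMap, card_eq_one]) rfl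
    intro k
    induction k using Nat.strong_induction_on with
    | _ k IH =>
    intro X hX hX1 hk
    obtain ⟨m, hm1, hm2, hmf⟩ := Transfer.exists_fullyNormalized_conj P hX
    refine hasNPC_normalizer_conjMap m X ?_
    set Y := Transfer.conjMap m X with hY
    set T := (P : Subgroup G) ⊓ normalizer (Y : Set G) with hT
    have hY1 : Y ≠ ⊥ := by rwa [Ne, ← card_eq_one, Transfer.card_conjMap, card_eq_one]
    have hYtop : normalizer (Y : Set G) ≠ ⊤ := fun he => hY1 (le_bot_iff.1 (hU1 ▸
      (haveI := normalizer_eq_top_iff.1 he; PCore.le_pCore (P.2.to_le hm2))))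
    refine hsub _ hYtop T inf_le_left inf_le_right hmf ?_
    rcases eq_or_lt_of_le (show T ≤ (P : Subgroup G) from inf_le_left) with hTP | hTP
    · rwa [hTP, inf_eq_left.2 hD.1]
    have hDT : D ⊓ T ≠ ⊥ := inf_ne_bot_of_stronglyClosed P.2 hD hD1
      (le_inf inf_le_left (inf_le_right.trans ((centralizer_le hm2).trans
        (centralizer_le_normalizer _))))
    have hle1 : Nat.card ↥((P : Subgroup G) ⊓ normalizer (X : Set G)) ≤ Nat.card T := by
      rw [← Transfer.card_conjMap m]
      refine card_le_of_le ?_
      rintro _ ⟨x, hx, rfl⟩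
      refine ⟨hm1 ⟨x, hx, rfl⟩, ?_⟩
      show m * x * m⁻¹ ∈ normalizer (Y : Set G)
      rw [hY, Transfer.normalizer_conjMap]
      exact Transfer.conj_mem_conjMap hx.2
    have hlt : T < (P : Subgroup G) ⊓ normalizer (F G (D ⊓ T) : Set G) := by
      refine lt_of_lt_of_le (Transfer.lt_inf_normalizer_of_lt P.2 hTP) (le_inf inf_le_left ?_)
      refine le_trans (fun x hx => ?_) (hF.normalizer_le (D ⊓ T))
      exact inf_normalizer_le_normalizer_inf
        ⟨Replacement.le_normalizer_of_stronglyClosed hD hx.1, hx.2⟩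
    refine IH _ ?_ (F G (D ⊓ T)) ((hF.le G _).trans (inf_le_left.trans hD.1))
      (hF.ne_bot G _ (P.2.to_le (inf_le_left.trans hD.1)) hDT) rfl
    have h1 : Nat.card T < Nat.card ↥((P : Subgroup G) ⊓ normalizer (F G (D ⊓ T) : Set G)) := by
      by_contra hh
      exact hlt.ne (eq_of_le_of_card_ge hlt.le (not_lt.1 hh))
    have h2' := card_le_of_le (inf_le_left : (P : Subgroup G) ⊓ normalizer (F G (D ⊓ T) : Set G) ≤ _)
    omega
  -- `G/O_p(G)`
  set U := Cfsg.pCore p G with hU
  set π := QuotientGroup.mk' U
  have hsurj : Function.Surjective π := QuotientGroup.mk'_surjective U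
  have hUP : U ≤ (P : Subgroup G) := PCore.pCore_le_sylow P
  have hUne : U ≠ (P : Subgroup G) := by
    intro he
    haveI hPn : ((P : Subgroup G)).Normal := he ▸ inferInstanceAs U.Normal
    apply htop
    refine eq_top_iff.2 fun x _ => hF.normalizer_le D ?_
    have key : ∀ (x : G), ∀ d ∈ D, x * d * x⁻¹ ∈ D := fun x d hd =>
      hD.2 d hd x (hPn.conj_mem d (hD.1 hd) x)
    rw [mem_normalizer_iff]
    exact fun d => ⟨key x d, fun hd => by simpa [mul_assoc] using key x⁻¹ _ hd⟩
  set Pb := P.mapSurjective hsurj with hPb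
  have ecoe : (Pb : Subgroup (G ⧸ U)) = (P : Subgroup G).map π := rfl
  have hPbne : (Pb : Subgroup (G ⧸ U)) ≠ ⊥ := by
    rw [ecoe, Ne, Subgroup.map_eq_bot_iff, QuotientGroup.ker_mk']
    exact fun h' => hUne (le_antisymm hUP h')
  set X := Cfsg.centerThompsonAOf (Pb : Subgroup (G ⧸ U)) with hX
  have hGU : Cfsg.HasNormalPComplement p (G ⧸ U) := by
    refine PComplement.zjAComplement h2 Pb ?_
    have hPN : (P : Subgroup G) ≤ (normalizer (X : Set (G ⧸ U))).comap π := fun x hx =>
      (isZJLike_A h2).sylow_le_normalizer (Replacement.isStronglyClosed_self _)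
        (ecoe ▸ (⟨x, hx, rfl⟩ : π x ∈ (P : Subgroup G).map π))
    have hne : (normalizer (X : Set (G ⧸ U))).comap π ≠ ⊤ := by
      intro he
      have he' : normalizer (X : Set (G ⧸ U)) = ⊤ := by
        rw [← map_comap_eq_self_of_surjective hsurj (normalizer (X : Set (G ⧸ U))), he,
          map_top_of_surjective _ hsurj]
      haveI := normalizer_eq_top_iff.1 he'
      have hXp : IsPGroup p X := Pb.2.to_le ((isZJLike_A h2).le _ _)
      have := PCore.le_pCore hXp
      rw [PCore.pCore_quotient_self_eq_bot, le_bot_iff] at this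
      exact (isZJLike_A h2).ne_bot _ _ Pb.2 hPbne this
    have h1 := hover _ hPN hne
    have h2' := Transfer.hasNormalPComplement_of_surjective
      (π.subgroupMap ((normalizer (X : Set (G ⧸ U))).comap π)) (π.subgroupMap_surjective _) h1
    exact Transfer.hasNormalPComplement_of_le
      (map_comap_eq_self_of_surjective hsurj _).ge h2'
  have hcfg := config_of_overgroups P hO hGU hbad hover
  exact htop (normalizer_eq_top_iff.2
    (hF.normal G P D hD (stableOn_of_config hcfg h2) hcfg.cent))

end Cfsg.Agent.ZJControl
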