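import Cfsg.Agent.Lib.ZJControl.Fusion

/-!
# Control of strong fusion in `p`-stable groups with constrained local subgroups

* `isNormalizerPStable_subgroup`, `isPStable_of_isNormalizerPStable`;
* `controlled_of_constrained_locals`.
-/

set_option autoImplicit false
set_option linter.style.haveILetI false

namespace Cfsg.Agent.ZJControl

open Subgroup
open scoped commutatorElement
open Cfsg.Agent.Replacement (StableOn)

universe u

variable {p : ℕ} [Fact p.Prime] {G : Type u} [Group G] [Finite G]

/-- The normaliser form of `p`-stability passes to subgroups. -/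
theorem isNormalizerPStable_subgroup (h : Cfsg.IsNormalizerPStable p G) (H : Subgroup G) :
    Cfsg.IsNormalizerPStable p ↥H := by
  intro U hU g hg hq
  set U' := U.map H.subtype with hU'
  have hg' : (g : G) ∈ normalizer (U' : Set G) := le_normalizer_map H.subtype ⟨g, hg, rfl⟩
  have hq' : ⁅⁅U', zpowers (g : G)⁆, zpowers (g : G)⁆ = ⊥ := by
    rw [show zpowers (g : G) = (zpowers g).map H.subtype from (MonoidHom.map_zpowers H.subtype g).symm,
      ← map_commutator, ← map_commutator, hq, Subgroup.map_bot]
  have h1 := h U' (hU.map H.subtype) (g : G) hg' hq'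
  set N' := normalizer (U' : Set G)
  let φ : ↥(normalizer (U : Set H)) →* ↥N' :=
    (H.subtype.comp (normalizer (U : Set H)).subtype).codRestrict N' fun x =>
      le_normalizer_map H.subtype ⟨(x : H), x.2, rfl⟩
  set C := (centralizer (U : Set H)).subgroupOf (normalizer (U : Set H)) with hC
  set C' := (centralizer (U' : Set G)).subgroupOf N' with hC'
  have hmem : ∀ x, φ x ∈ C' ↔ x ∈ C := by
    intro x
    rw [hC, hC', mem_subgroupOf, mem_subgroupOf, mem_centralizer_iff, mem_centralizer_iff]
    constructor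
    · exact fun hx u hu => Subtype.ext (hx (u : G) ⟨u, hu, rfl⟩)
    · rintro hx _ ⟨u, hu, rfl⟩
      exact congrArg Subtype.val (hx u hu)
  set ψ := QuotientGroup.map C C' φ (fun x hx => (hmem x).2 hx) with hψ
  have hψi : Function.Injective ψ := by
    refine (injective_iff_map_eq_one _).2 fun q hq => ?_
    obtain ⟨x, rfl⟩ := QuotientGroup.mk'_surjective C q
    exact (QuotientGroup.eq_one_iff x).2 ((hmem x).1 ((QuotientGroup.eq_one_iff (φ x)).1 hq))
  exact PCore.le_pCore (N := (Cfsg.pCore p (↥N' ⧸ C')).comap ψ)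
    (PCore.isPGroup_pCore.comap_of_injective ψ hψi) h1

/-- The normaliser form gives the form with an acting subgroup. -/
theorem isPStable_of_isNormalizerPStable (h2 : p ≠ 2) (h : Cfsg.IsNormalizerPStable p G)
    (hne : Cfsg.pCore p G ≠ ⊥) : Cfsg.IsPStable p G := by
  refine ⟨(Fact.out : p.Prime).odd_of_ne_two h2, hne, fun A Q hA hQ hn _ _ hq => ?_⟩
  rintro _ ⟨⟨a, haN⟩, ha, rfl⟩
  refine h Q hQ a haN (le_bot_iff.1 ?_)
  rw [← hq]
  exact commutator_mono (commutator_mono le_rfl (zpowers_le.2 ha)) (zpowers_le.2 ha)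

variable {F : ∀ (G : Type u) [Group G], Subgroup G → Subgroup G}

/-- **Control of strong fusion in `p`-stable groups with constrained locals.** -/
theorem controlled_of_constrained_locals (h2 : p ≠ 2) (hF : IsZJLike p F) (P : Sylow p G)
    {D : Subgroup G} (hD : Cfsg.IsStronglyClosed D (P : Subgroup G))
    (hst : Cfsg.IsNormalizerPStable p G)
    (hc : ∀ U : Subgroup G, U ≤ (P : Subgroup G) → U ≠ ⊥ →
      Cfsg.IsPConstrained p ↥(normalizer (U : Set G))) :
    Controlled F G (P : Subgroup G) D := by
  intro A hA g hAg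
  by_cases hD1 : D = ⊥
  · refine Ctl.of_mem ?_
    rw [hD1, hF.apply_bot]
    exact (normalizer_eq_top (H := (⊥ : Subgroup G))).symm ▸ mem_top g
  have hW := isConjugacyFunctor_wFun hF D
  have hfam := Transfer.familyControlsStrongFusionIn_top_of_local
    (Transfer.isGoodPred_fullyNormalized P) (𝓦 := {wFun F D})
    (fun W hW' => by obtain rfl : W = wFun F D := hW'; exact hW) fun E hEP hE1 hEg => by
      set H := normalizer (E : Set G) with hH
      set T := (P : Subgroup G) ⊓ H with hT
      refine Transfer.controlsStrongFusionIn_iff_singleton.1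
        ⟨T, inf_le_right, P.2.to_le inf_le_left, hEg, fun B h hh hB hBh => ?_⟩
      have hDT : D ⊓ T ≠ ⊥ := inf_ne_bot_of_stronglyClosed P.2 hD hD1
        (le_inf inf_le_left (inf_le_right.trans
          ((centralizer_le hEP).trans (centralizer_le_normalizer _))))
      obtain ⟨S, hS⟩ := ConjFun.exists_sylow_eq (p := p) (H := H)
        (P.2.to_le (inf_le_left : T ≤ _)) hEg
      set DH := (D ⊓ T).subgroupOf H with hDH
      have hDS : Cfsg.IsStronglyClosed DH (S : Subgroup H) :=
        hS ▸ stronglyClosed_subgroupOf hD inf_le_left H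
      set M := Cfsg.pPrimeCore p ↥H
      have hMc : (Nat.card M).Coprime p := PCore.coprime_card_pPrimeCore
      have hinj := Replacement.injOn_mk_pPrimeCore S.2
      have hcore : Cfsg.pCore p ↥H ≠ ⊥ := by
        intro h0
        haveI : (E.subgroupOf H).Normal := normal_in_normalizer
        have h1 := PCore.le_pCore (N := E.subgroupOf H)
          ((P.2.to_le hEP).comap_subtype : IsPGroup p ↥(E.subgroupOf H))
        rw [h0, le_bot_iff, subgroupOf_eq_bot] at h1
        exact hE1 (h1.eq_bot_of_le le_normalizer)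
      have hstH := Replacement.stableOn_quotient S
        (isPStable_of_isNormalizerPStable h2 (isNormalizerPStable_subgroup hst H) hcore)
      rw [← Replacement.map_sylow_quotient] at hstH
      have hnorm := hF.normal _ (S.mapSurjective (QuotientGroup.mk'_surjective M))
        (DH.map (QuotientGroup.mk' M)) (stronglyClosed_map S hDS M) hstH
        (PCore.isPConstrained_iff.1 (hc E hEP hE1))
      rw [hF.map _ _ (QuotientGroup.mk' M) DH fun x hx => hinj x (hDS.1 hx)] at hnorm
      obtain ⟨x, hx, hxe⟩ := PComplement.normalizer_map_le M hMc (F H DH)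
        (S.2.to_le ((hF.le H DH).trans hDS.1))
        (show QuotientGroup.mk' M (⟨h, hh⟩ : H) ∈ _ by
          rw [normalizer_eq_top_iff.2 hnorm]; exact mem_top _)
      obtain ⟨y, hy, he⟩ := ctl_of_mk_eq (g := (⟨h, hh⟩ : H)) (A := H.subtype ⁻¹' B) S.2
        (hF.sylow_le_normalizer hDS) M hMc (fun b hb => by rw [hS]; exact hB hb)
        (fun b hb => by rw [hS]; exact hBh ⟨(b : G), hb, rfl⟩) hx
        fun b _ => by simp only [map_mul, map_inv, hxe]
      refine ⟨(y : G), ⟨y.2, ?_⟩, fun b hb =>
        (congrArg Subtype.val (he ⟨b, (inf_le_right : T ≤ H) (hB hb)⟩ hb)).symm⟩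
      rw [wFun_eq hD inf_le_left hDT]
      have e : (F H DH).map H.subtype = F G (D ⊓ T) := by
        rw [← hF.map_subtype, hDH, map_subgroupOf_eq_of_le (inf_le_right.trans inf_le_right)]
      rw [← e]
      exact le_normalizer_map H.subtype ⟨y, hy, rfl⟩
  obtain ⟨x, hx, c, hc', rfl⟩ := (Transfer.controlsStrongFusionIn_top_iff P hW).1
    (Transfer.controlsStrongFusionIn_iff_singleton.2 hfam) (closure A) g ((closure_le _).2 hA) (by
      rw [Transfer.conjMap, MonoidHom.map_closure, closure_le]
      rintro _ ⟨a, ha, rfl⟩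
      exact hAg a ha)
  rw [wFun_eq hD le_rfl (by rwa [inf_eq_left.2 hD.1]), inf_eq_left.2 hD.1] at hx
  refine ⟨x, hx, fun a ha => ?_⟩
  have h1 := mem_centralizer_iff.1 hc' a (subset_closure ha)
  calc x * c * a * (x * c)⁻¹ = x * (c * a) * c⁻¹ * x⁻¹ := by group
    _ = x * (a * c) * c⁻¹ * x⁻¹ := by rw [h1]
    _ = _ := by group

end Cfsg.Agent.ZJControl

namespace Cfsg.Agent.ZJControl

open Subgroup

universe v

variable {p : ℕ} [Fact p.Prime] {F : ∀ (G : Type v) [Group G], Subgroup G → Subgroup G}

/-- `Qd(p)`-free groups, given that `Qd(p)`-freeness implies stability. -/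
theorem controlled_of_not_involves_qd (h2 : p ≠ 2)
    (hst : ∀ (H : Type v) [Group H] [Finite H], ¬ Cfsg.Involves ↥(Cfsg.qd p) H → ∀ S : Sylow p H,
      centralizer (Cfsg.pCore p H : Set H) ≤ Cfsg.pCore p H →
        Replacement.StableOn p (S : Subgroup H))
    {G : Type v} [Group G] [Finite G] (hqd : ¬ Cfsg.Involves ↥(Cfsg.qd p) G) (hF : IsZJLike p F)
    (P : Sylow p G) {D : Subgroup G} (hD : Cfsg.IsStronglyClosed D (P : Subgroup G)) :
    Controlled F G (P : Subgroup G) D :=
  controlled_of_stableClass h2 (fun H _ => ¬ Cfsg.Involves ↥(Cfsg.qd p) H)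
    (fun _ _ _ H h hH => h (ConjFun.involves_trans hH (ConjFun.involves_subgroup H)))
    (fun _ _ _ N _ h hN => h (ConjFun.involves_trans hN (ConjFun.involves_quotient N)))
    hst hqd hF P hD

end Cfsg.Agent.ZJControl
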