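import Cfsg.Agent.Lib.Replacement.FullCentre
import Cfsg.Agent.Lib.ZJControl.Basic

/-!
# Normality of the full centre `Z(J(D))` of the elementary Thompson subgroup of a strongly closed `D`
-/

set_option autoImplicit false

namespace Cfsg.Agent.Replacement

open scoped commutatorElement Pointwise
open Subgroup Cfsg.Agent.PGroup

universe u

variable {G : Type u} [Group G] [Finite G] {p : ℕ} [hp : Fact p.Prime]

/-- `B ∩ Z(J(D))` is normal for every normal `p`-subgroup `B`. -/
theorem inf_centerThompsonOf_normal' (h2 : p ≠ 2) (S : Sylow p G) {D : Subgroup G}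
    (hD : Cfsg.IsStronglyClosed D (S : Subgroup G)) (hst : StableOn p (S : Subgroup G))
    (B : Subgroup G) (hBn : B.Normal) (hB : IsPGroup p B) :
    (B ⊓ centerThompsonOf p D).Normal := by
  induction hn : Nat.card B using Nat.strong_induction_on generalizing B with
  | _ k ih =>
  subst hn
  haveI := hBn
  set J := thompsonSubgroupOf p D with hJ
  set Y := centerThompsonOf p D with hY
  have hlt : ∀ T : Subgroup G, T.Normal → T ≤ B → T ≠ B → (T ⊓ Y).Normal := fun T hT hTB hne' =>
    ih _ (lt_of_not_ge fun h => hne' (eq_of_le_of_card_ge hTB h)) T hT (hB.to_le hTB) rfl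
  by_cases hgen : normalClosure ((B ⊓ Y : Subgroup G) : Set G) ≠ B
  · exact inf_normal_of_normalClosure_le hlt hgen
  push Not at hgen
  by_cases hbot : B = ⊥
  · rw [hbot, bot_inf_eq]; infer_instance
  have hBS : B ≤ (S : Subgroup G) := hB.le_sylow_of_normal S
  have hYS : (S : Subgroup G) ≤ normalizer (Y : Set G) :=
    ((le_normalizer_of_stronglyClosed hD).trans (normalizer_le_normalizer_thompsonOf D)).trans
      (centralizer_normalizer_le J)
  obtain ⟨hBY, hclass⟩ := derived_le_inf hBS hYS (centerThompsonOf_isMulCommutative _) hgen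
    (hlt ⁅B, B⁆ inferInstance (commutator_le_self B) (commutator_lt_self hB hbot))
  set B₀ := omegaOne p B with hB₀
  haveI : B₀.Normal := omegaOne_normal B
  have hB₀le : B₀ ≤ B := omegaOne_le B
  -- `Ω₁(B)` has exponent `p`
  have hpow : ∀ x ∈ B₀, x ^ p = 1 := by
    have hcen : commutator B ≤ Subgroup.center B := by
      intro x hx
      rw [mem_center_iff]
      intro y
      have hxB : (x : G) ∈ ⁅B, B⁆ := map_subtype_commutator B ▸ mem_map_of_mem _ hx
      exact Subtype.ext
        (mem_centralizer_iff.1 (commutator_eq_bot_iff_le_centralizer.1 hclass hxB) y y.2)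
    intro x hx
    have hs : B₀ ≤ (closure {z : B | z ^ p = 1}).map B.subtype := by
      rw [hB₀, omegaOne_le_iff]
      intro z hz hzp
      exact ⟨⟨z, hz⟩, subset_closure (Subtype.ext (by simpa using hzp)), rfl⟩
    obtain ⟨z, hz, rfl⟩ := hs hx
    have := pow_eq_one_of_mem_closure hp.out h2 hcen (fun w hw => hw) hz
    simpa using congrArg Subtype.val this
  have hW : sInf {A : Subgroup G | IsMaxEA p D A} = omegaOne p Y :=
    sInf_isMaxEA p D
  have hclass₀ : ⁅⁅B₀, B₀⁆, B₀⁆ = ⊥ :=
    le_bot_iff.1 ((commutator_mono (commutator_mono hB₀le hB₀le) hB₀le).trans hclass.le)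
  have hB₀' : ∀ A, IsMaxEA p D A → ⁅B₀, B₀⁆ ≤ A := fun A hA => by
    refine le_trans ?_ (sInf_le (show A ∈ {A : Subgroup G | IsMaxEA p D A} from hA))
    rw [hW]
    intro x hx
    exact mem_omegaOne_of_pow_eq_one (hBY (commutator_mono hB₀le hB₀le hx))
      (hpow x ((commutator_le_self B₀) hx))
  set K := (pCore p (G ⧸ centralizer (B : Set G))).comap (QuotientGroup.mk' (centralizer (B : Set G)))
    with hK
  have hquad : ∀ A, IsMaxEA p D A → B₀ ≤ normalizer (A : Set G) → A ≤ K :=
    fun A hA hn a ha => comap_pCore_centralizer_omegaOne h2 B hB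
      (hst B₀ (hB.to_le hB₀le) a (hD.1 (hA.1 ha)) (commutator_commutator_zpowers_eq_bot hA.2.1.1 hn ha))
  have hconj : ∀ z ∈ B ⊓ Y, ∀ g : G, ∃ n ∈ normalizer (((S : Subgroup G) ⊓ K : Subgroup G) : Set G),
      g * z * g⁻¹ = n * z * n⁻¹ := by
    intro z hz g
    obtain ⟨n, hn, c, hc, rfl⟩ := exists_normalizer_mul_centralizer S B g
    refine ⟨n, hn, ?_⟩
    rw [show n * c * z * (n * c)⁻¹ = n * (c * z * c⁻¹) * n⁻¹ by simp [mul_assoc],
      ← mem_centralizer_iff.1 hc z (Subgroup.mem_inf.1 hz).1, mul_inv_cancel_right]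
  by_cases hall : ∀ A, IsMaxEA p D A → B₀ ≤ A
  · -- all maximal subgroups lie in `K`, so `N(S ∩ K)` normalizes `J`
    have hJQ : J ≤ (S : Subgroup G) ⊓ K := by
      rw [hJ, thompsonSubgroupOf_eq]
      exact sSup_le fun A hA => le_inf (hA.1.trans hD.1) (hquad A hA ((hall A hA).trans le_normalizer))
    have hN : normalizer (((S : Subgroup G) ⊓ K : Subgroup G) : Set G) ≤ normalizer (Y : Set G) := by
      refine le_trans ?_ (centralizer_normalizer_le J)
      intro n hn
      refine mem_normalizer_of_map_conj_eq (eq_of_le_of_card_ge ?_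
        (card_map_of_injective (MulAut.conj n).injective).ge)
      rw [hJ, map_le_iff_le_comap]
      conv_lhs => rw [thompsonSubgroupOf_eq]
      exact sSup_le fun A hA => map_le_iff_le_comap.1 (le_thompsonSubgroupOf
        (isMaxEA_conj_of_stronglyClosed S hD inf_le_left hn hA
          ((le_thompsonSubgroupOf hA).trans hJQ)))
    have hBY' : B ≤ Y := by
      rw [← hgen]
      refine (closure_le Y).2 fun x hx => ?_
      obtain ⟨z, hz, hzx⟩ := Group.mem_conjugatesOfSet_iff.1 hx
      obtain ⟨g, rfl⟩ := isConj_iff.1 hzx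
      obtain ⟨n, hn, he⟩ := hconj z hz g
      rw [SetLike.mem_coe, he]
      exact (mem_normalizer_iff.1 (hN hn) z).1 (Subgroup.mem_inf.1 hz).2
    rw [inf_eq_left.2 hBY']; exact hBn
  · push Not at hall
    obtain ⟨U, hU, hBU⟩ := hall
    obtain ⟨A, hA, -, hBA, hnorm⟩ := exists_normalized_maxEA h2 (D := D) S.2 hD.1
      (hB₀le.trans hBS) (le_normalizer_of_stronglyClosed hD) le_normalizer_of_normal hclass₀ ⟨U, hU, hB₀' U hU, hBU⟩
    exfalso
    apply hBA
    have hBC : B ≤ centralizer (A : Set G) := by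
      rw [← hgen]
      refine (closure_le (centralizer (A : Set G))).2 fun x hx => ?_
      obtain ⟨z, hz, hzx⟩ := Group.mem_conjugatesOfSet_iff.1 hx
      obtain ⟨g, rfl⟩ := isConj_iff.1 hzx
      obtain ⟨n, hn, he⟩ := hconj z hz g
      rw [SetLike.mem_coe, he, mem_centralizer_iff]
      intro a ha
      have hA' := isMaxEA_conj_of_stronglyClosed S hD inf_le_left (inv_mem hn)
        hA (le_inf (hA.1.trans hD.1) (hquad A hA hnorm))
      have h := mem_centralizer_iff.1 (Subgroup.mem_inf.1 (Subgroup.mem_inf.1 hz).2).2 _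
        (le_thompsonSubgroupOf hA' (mem_map_of_mem _ ha))
      have h' := congrArg (fun t => n * t * n⁻¹) h
      simpa [MulAut.conj_apply, mul_assoc] using h'
    have hBD : B ≤ D := by
      rw [← hgen]
      refine (closure_le D).2 fun x hx => ?_
      obtain ⟨z, hz, hzx⟩ := Group.mem_conjugatesOfSet_iff.1 hx
      obtain ⟨g, rfl⟩ := isConj_iff.1 hzx
      exact hD.2 z (thompsonSubgroupOf_le D (Subgroup.mem_inf.1 (Subgroup.mem_inf.1 hz).2).1) g
        (hBS (hBn.conj_mem z (Subgroup.mem_inf.1 hz).1 g))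
    intro x hx
    exact omegaOne_centralizer_le_of_isMaxEA hA
      (mem_omegaOne_of_pow_eq_one (Subgroup.mem_inf.2 ⟨hBD (hB₀le hx), hBC (hB₀le hx)⟩) (hpow x hx))

/-- The full centre `Z(J(D))` of the elementary Thompson subgroup is normal. -/
theorem centerThompsonOf_normal' (h2 : p ≠ 2) (S : Sylow p G) {D : Subgroup G}
    (hD : Cfsg.IsStronglyClosed D (S : Subgroup G)) (hst : StableOn p (S : Subgroup G))
    (hc : centralizer (pCore p G : Set G) ≤ pCore p G) :
    (centerThompsonOf p D).Normal := by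
  have hle : centerThompsonOf p D ≤ (S : Subgroup G) :=
    (inf_le_left.trans (thompsonSubgroupOf_le _)).trans hD.1
  have hYS : (S : Subgroup G) ≤ normalizer (centerThompsonOf p D : Set G) :=
    ((le_normalizer_of_stronglyClosed hD).trans (normalizer_le_normalizer_thompsonOf D)).trans
      (centralizer_normalizer_le _)
  have hWO : centerThompsonOf p D ≤ pCore p G := by
    intro w hw
    have := hst (pCore p G) PCore.isPGroup_pCore w (hle hw)
      (commutator_commutator_zpowers_eq_bot (centerThompsonOf_isMulCommutative _)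
        ((PCore.pCore_le_sylow S).trans hYS) hw)
    rwa [PCore.comap_pCore_quotient _ (PCore.isPGroup_pCore.to_le hc)] at this
  rw [← inf_eq_right.2 hWO]
  exact inf_centerThompsonOf_normal' h2 S hD hst _ inferInstance PCore.isPGroup_pCore



end Cfsg.Agent.Replacement

namespace Cfsg.Agent.ZJControl

open Subgroup

universe v

/-- `D ↦ Z(J_e(D))`. -/
abbrev zjE (p : ℕ) : ∀ (G : Type v) [Group G], Subgroup G → Subgroup G :=
  fun _ _ D => Cfsg.centerThompsonOf p D

theorem isZJLike_centerThompson {p : ℕ} [Fact p.Prime] (h2 : p ≠ 2) : IsZJLike.{v} p (zjE p) where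
  le G _ D := inf_le_left.trans (PGroup.thompsonSubgroupOf_le D)
  ne_bot G _ _ D hD h1 h := (isZJLike_omega.{v} h2).ne_bot G D hD h1
    (le_bot_iff.1 ((PGroup.omegaOne_le _).trans h.le))
  map G H _ _ f D hf := Replacement.centerThompsonOf_map_injOn f hf
  normal G _ _ S D hD hst hc := Replacement.centerThompsonOf_normal' h2 S hD hst hc

end Cfsg.Agent.ZJControl
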