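import Cfsg.Agent.Lib.ZJControl.Basic
import Cfsg.Agent.Lib.Replacement.QdFree
import Cfsg.Agent.Lib.Quadratic.Stability
import Cfsg.Agent.Lib.Quadratic.SL2Sub
import Cfsg.Agent.Lib.Offender.Model
import Cfsg.Agent.Lib.SylowCount.Basic
import Mathlib.GroupTheory.Transfer

/-!
# Inverted `q`-elements and `N(Z(J(T)))`, `q` odd

`inv_normalizer_zjA`: if some nontrivial `q`-element of `G` is inverted in `G`, the same holds in
the normaliser of `Z(J(T))`, `T` a Sylow `q`-subgroup.

The proof is by induction on `#G`. A counterexample has `C(Q) ≤ Q = O_q(G)`, proper overgroups of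
Sylow subgroups containing no involution, and is not `q`-stable; a maximal `q`-subgroup generated by
`Q` and quadratic elements with even normaliser then gives such an overgroup.
-/

set_option autoImplicit false

namespace Cfsg.Agent.ZJControl

open Subgroup
open scoped commutatorElement Pointwise MatrixGroups

universe u

variable {G : Type u} [Group G]

/-- Some nontrivial `q`-element of `H` is inverted in `H`. -/
def Inv (q : ℕ) (H : Subgroup G) : Prop :=
  ∃ x ∈ H, ∃ g ∈ H, x ≠ 1 ∧ (∃ n : ℕ, x ^ q ^ n = 1) ∧ g * x * g⁻¹ = x⁻¹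

theorem Inv.mono {q : ℕ} {H K : Subgroup G} (h : Inv q H) (hle : H ≤ K) : Inv q K := by
  obtain ⟨x, hx, g, hg, h1⟩ := h
  exact ⟨x, hle hx, g, hle hg, h1⟩

theorem Inv.map {q : ℕ} {K : Type*} [Group K] {H : Subgroup G} (h : Inv q H) (f : G →* K)
    (hf : Function.Injective f) : Inv q (H.map f) := by
  obtain ⟨x, hx, g, hg, h1, ⟨n, hn⟩, h2⟩ := h
  refine ⟨f x, mem_map_of_mem f hx, f g, mem_map_of_mem f hg, fun e => h1 (hf (by rw [e, map_one])),
    ⟨n, by rw [← map_pow, hn, map_one]⟩, ?_⟩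
  rw [← map_inv, ← map_mul, ← map_mul, h2, map_inv]

theorem inv_top_iff {q : ℕ} (H : Subgroup G) : Inv q (⊤ : Subgroup H) ↔ Inv q H := by
  constructor
  · intro h
    simpa [← MonoidHom.range_eq_map] using h.map H.subtype H.subtype_injective
  · rintro ⟨x, hx, g, hg, h1, ⟨n, hn⟩, h2⟩
    exact ⟨⟨x, hx⟩, mem_top _, ⟨g, hg⟩, mem_top _, fun e => h1 (congrArg Subtype.val e),
      ⟨n, Subtype.ext hn⟩, Subtype.ext h2⟩

variable [Finite G]

/-- An element with square in `K` but not itself in `K` has a 2-power with the same property. -/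
theorem exists_two_element {K : Subgroup G} {g : G} (hg : g ∉ K) (hg2 : g * g ∈ K) :
    ∃ h ∈ zpowers g, h ∉ K ∧ h * h ∈ K ∧ ∃ k : ℕ, h ^ 2 ^ k = 1 := by
  obtain ⟨k, m, hm, hkm⟩ :=
    Nat.exists_eq_pow_mul_and_not_dvd (orderOf_pos g).ne' 2 (by norm_num)
  obtain ⟨j, hj⟩ : Odd m := Nat.not_even_iff_odd.1 fun h => hm (even_iff_two_dvd.1 h)
  have hgm : g ^ m = (g * g) ^ j * g := by rw [hj, ← sq, ← pow_mul, ← pow_succ]
  refine ⟨g ^ m, pow_mem (mem_zpowers g) _, fun h => hg ?_, ?_, k,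
    by rw [← pow_mul, mul_comm m, ← hkm, pow_orderOf_eq_one]⟩
  · rw [hgm] at h
    have := mul_mem (inv_mem (pow_mem hg2 j)) h
    rwa [inv_mul_cancel_left] at this
  · rw [← pow_add, ← two_mul, pow_mul, sq]
    exact pow_mem hg2 _

variable {q : ℕ} [hq : Fact q.Prime]

/-- A 2-element normalising and not centralising a `q`-subgroup inverts one of its elements. -/
theorem inv_of_moves {H Y : Subgroup G} (hY : IsPGroup q Y) (hYH : Y ≤ H) (k : ℕ) :
    ∀ h ∈ H, h ^ 2 ^ k = 1 → h ∈ normalizer (Y : Set G) → (∃ y ∈ Y, h * y * h⁻¹ ≠ y) →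
      Inv q H := by
  induction k with
  | zero =>
    intro h _ hh _ ⟨y, _, hy⟩
    rw [pow_zero, pow_one] at hh
    exact absurd (by simp [hh]) hy
  | succ k ih =>
    intro h hH hh hn ⟨y, hyY, hy⟩
    by_cases h2 : ∃ z ∈ Y, (h * h) * z * (h * h)⁻¹ ≠ z
    · exact ih (h * h) (mul_mem hH hH) (by rw [← sq, ← pow_mul, ← pow_succ']; exact hh)
        (mul_mem hn hn) h2
    push Not at h2
    have hzY : y⁻¹ * (h * y * h⁻¹) ∈ Y :=
      mul_mem (inv_mem hyY) ((mem_normalizer_iff.1 hn y).1 hyY)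
    refine ⟨_, hYH hzY, h, hH, fun e => hy (inv_mul_eq_one.1 e).symm, ?_, ?_⟩
    · obtain ⟨n, hn⟩ := hY ⟨_, hzY⟩
      exact ⟨n, congrArg Subtype.val hn⟩
    · calc h * (y⁻¹ * (h * y * h⁻¹)) * h⁻¹ = (h * y * h⁻¹)⁻¹ * ((h * h) * y * (h * h)⁻¹) := by group
        _ = (y⁻¹ * (h * y * h⁻¹))⁻¹ := by rw [h2 y hyY]; group

/-- **Frattini**, for an element: `S` of `q'`-index in `M`, normalised up to `M`. -/
theorem exists_mul_mem_normalizer {M S : Subgroup G} (hS : IsPGroup q S) (hSM : S ≤ M)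
    (hidx : ¬ q ∣ S.relIndex M) {g : G} (hg : g ∈ normalizer (M : Set G)) :
    ∃ m ∈ M, m * g ∈ normalizer (S : Set G) := by
  have hle : S.map (MulAut.conj g).toMonoidHom ≤ M := by
    rintro _ ⟨s, hs, rfl⟩
    exact (mem_normalizer_iff.1 hg s).1 (hSM hs)
  obtain ⟨m, hm, h⟩ := ConjFun.exists_conj_le_of_relIndex hS hidx hle (hS.map _)
  refine ⟨m, hm, Subnormal.mem_normalizer_of_cj_le ?_⟩
  rintro _ ⟨s, hs, rfl⟩
  have := h ⟨_, ⟨s, hs, rfl⟩, rfl⟩
  simpa [mul_assoc] using this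

/-- Inverted `q`-elements lift through a normal `q'`-subgroup. -/
theorem inv_of_map {K : Subgroup G} [K.Normal] (hK : (Nat.card K).Coprime q) {N : Subgroup G}
    (h : Inv q (N.map (QuotientGroup.mk' K))) : Inv q N := by
  set π := QuotientGroup.mk' K with hπ
  obtain ⟨_, ⟨x₀, hx₀, rfl⟩, _, ⟨g, hgN, rfl⟩, hx1, ⟨n, hn⟩, hgx⟩ := h
  obtain ⟨a, m, hm, ham⟩ :=
    Nat.exists_eq_pow_mul_and_not_dvd (orderOf_pos x₀).ne' q hq.out.ne_one
  have hcop : (orderOf (π x₀)).Coprime m :=
    Nat.Coprime.coprime_dvd_left (orderOf_dvd_of_pow_eq_one hn)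
      (((hq.out.coprime_iff_not_dvd).2 hm).pow_left n)
  obtain ⟨u, hu⟩ := exists_pow_eq_self_of_coprime hcop.symm
  set x := (x₀ ^ m) ^ u with hxdef
  have hxq : ∀ y ∈ zpowers x, y ^ q ^ a = 1 := by
    rintro _ ⟨i, rfl⟩
    have : x ^ q ^ a = 1 := by
      rw [hxdef, ← pow_mul, ← pow_mul, show m * (u * q ^ a) = orderOf x₀ * u by rw [ham]; ring,
        pow_mul, pow_orderOf_eq_one, one_pow]
    dsimp only
    rw [← zpow_natCast, ← zpow_mul, mul_comm, zpow_mul, zpow_natCast, this, one_zpow]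
  have hπx : π x = π x₀ := by rw [hxdef, map_pow, map_pow, hu]
  have hxN : x ∈ N := pow_mem (pow_mem hx₀ _) _
  set Y := zpowers x
  have hYp : IsPGroup q Y := fun y => ⟨a, Subtype.ext (hxq y y.2)⟩
  have hdisj : ∀ y ∈ Y, y ∈ K → y = 1 := fun y hy hyK =>
    disjoint_def.1 (PCore.disjoint_of_isPGroup_of_coprime hYp hK) hy hyK
  set L := K ⊓ N
  have hLn : Y ≤ normalizer (L : Set G) := fun y hy => inf_normalizer_le_normalizer_inf
    ⟨(normalizer_eq_top (H := K)).symm ▸ mem_top y, le_normalizer (zpowers_le.2 hxN hy)⟩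
  have hle : Y.map (MulAut.conj g).toMonoidHom ≤ Y ⊔ L := by
    rw [MonoidHom.map_zpowers, zpowers_le]
    have h1 : π (x * (g * x * g⁻¹)) = 1 := by
      rw [map_mul, map_mul, map_mul, map_inv, hπx, hgx, mul_inv_cancel]
    have h2' : x * (g * x * g⁻¹) ∈ N :=
      mul_mem hxN (mul_mem (mul_mem (show g ∈ N from hgN) hxN) (inv_mem (show g ∈ N from hgN)))
    have h2 : x * (g * x * g⁻¹) ∈ L := ⟨(QuotientGroup.eq_one_iff _).1 h1, h2'⟩
    show g * x * g⁻¹ ∈ Y ⊔ L
    rw [show g * x * g⁻¹ = x⁻¹ * (x * (g * x * g⁻¹)) by group]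
    exact mul_mem (mem_sup_left (inv_mem (mem_zpowers x))) (mem_sup_right h2)
  have hcop2 : (Nat.card Y).Coprime (Nat.card L) := by
    obtain ⟨k, hk⟩ := hYp.exists_card_eq
    rw [hk]
    exact ((hK.coprime_dvd_left (card_dvd_of_le inf_le_left)).symm.pow_left k)
  haveI := hYp.isNilpotent
  obtain ⟨l, hl, hconj⟩ := Coprime.exists_conj_eq_of_le_sup hLn hle
    (card_map_of_injective (MulAut.conj g).injective) hcop2 (Or.inr inferInstance)
  have hnY : (l⁻¹ * g) * x * (l⁻¹ * g)⁻¹ ∈ Y := by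
    have : g * x * g⁻¹ ∈ MulAut.conj l • Y := hconj.symm ▸ ⟨x, mem_zpowers x, rfl⟩
    rw [Subgroup.mem_pointwise_smul_iff_inv_smul_mem] at this
    simpa [mul_assoc] using this
  refine ⟨x, hxN, l⁻¹ * g, mul_mem (inv_mem hl.2) hgN, fun e => hx1 ?_,
    ⟨a, hxq x (mem_zpowers x)⟩, ?_⟩
  · rw [← hπx, e, map_one]
  · rw [eq_inv_iff_mul_eq_one]
    refine hdisj _ (mul_mem hnY (mem_zpowers x)) ((QuotientGroup.eq_one_iff _).1 ?_)
    have hl1 : π l = 1 := (QuotientGroup.eq_one_iff l).2 hl.1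
    show π ((l⁻¹ * g) * x * (l⁻¹ * g)⁻¹ * x) = 1
    rw [map_mul, map_mul, map_mul, map_inv, map_mul, map_inv, hl1, inv_one, one_mul, hπx, hgx,
      inv_mul_cancel]

/-- The normaliser of the image of a `q`-subgroup in a quotient by a normal `q'`-subgroup. -/
theorem normalizer_map_le {K Z : Subgroup G} [K.Normal] (hK : (Nat.card K).Coprime q)
    (hZ : IsPGroup q Z) :
    normalizer ((Z.map (QuotientGroup.mk' K) : Subgroup (G ⧸ K)) : Set (G ⧸ K)) ≤
      (normalizer (Z : Set G)).map (QuotientGroup.mk' K) := by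
  set π := QuotientGroup.mk' K with hπ
  intro y hy
  obtain ⟨g, rfl⟩ := QuotientGroup.mk'_surjective K y
  have hle : Z.map (MulAut.conj g).toMonoidHom ≤ Z ⊔ K := by
    rintro _ ⟨z, hz, rfl⟩
    have h1 : π (g * z * g⁻¹) ∈ Z.map π := by
      rw [map_mul, map_mul, map_inv]
      exact (mem_normalizer_iff.1 hy _).1 (mem_map_of_mem π hz)
    have h2 : g * z * g⁻¹ ∈ (Z.map π).comap π := h1
    rwa [comap_map_eq, hπ, QuotientGroup.ker_mk'] at h2
  have hcop : (Nat.card Z).Coprime (Nat.card K) := by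
    obtain ⟨k, hk⟩ := hZ.exists_card_eq
    rw [hk]
    exact hK.symm.pow_left k
  haveI := hZ.isNilpotent
  obtain ⟨l, hl, hconj⟩ := Coprime.exists_conj_eq_of_le_sup
    (fun z _ => (normalizer_eq_top (H := K)).symm ▸ mem_top z) hle
    (card_map_of_injective (MulAut.conj g).injective) hcop (Or.inr inferInstance)
  refine ⟨l⁻¹ * g, Subnormal.mem_normalizer_of_cj_le ?_, ?_⟩
  · rintro _ ⟨z, hz, rfl⟩
    have : g * z * g⁻¹ ∈ MulAut.conj l • Z := hconj.symm ▸ ⟨z, hz, rfl⟩
    rw [Subgroup.mem_pointwise_smul_iff_inv_smul_mem] at this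
    simpa [mul_assoc] using this
  · rw [map_mul, map_inv, show π l = 1 from (QuotientGroup.eq_one_iff l).2 hl, inv_one, one_mul]

/-- A Sylow subgroup meets a normalised subgroup in one of `q'`-index. -/
theorem not_dvd_relIndex_inf {S M H : Subgroup G} (hidx : ¬ q ∣ S.relIndex H) (hSH : S ≤ H)
    (hM : M ≤ H) (hn : S ≤ normalizer (M : Set G)) : ¬ q ∣ (S ⊓ M).relIndex M := by
  intro hd
  apply hidx
  have hc : ∀ {A B : Subgroup G}, A ≤ B → A.relIndex B * Nat.card A = Nat.card B := by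
    intro A B hAB
    rw [mul_comm, ← relIndex_bot_left, relIndex_mul_relIndex _ _ _ bot_le hAB, relIndex_bot_left]
  have h := Offender.card_sup_mul_card_inf hn
  have h1 := hc (inf_le_right : S ⊓ M ≤ M)
  have h2 := hc (le_sup_left : S ≤ S ⊔ M)
  rw [← h1, ← h2] at h
  have h3 : S.relIndex (S ⊔ M) = (S ⊓ M).relIndex M :=
    Nat.eq_of_mul_eq_mul_right (Nat.mul_pos Nat.card_pos Nat.card_pos)
      ((mul_assoc _ _ _).symm.trans (h.trans (mul_left_comm _ _ _)))
  exact hd.trans (h3 ▸ Dvd.intro _ (relIndex_mul_relIndex S (S ⊔ M) H le_sup_left (sup_le hSH hM)))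

/-- A `q`-subgroup of a finite group extends to one of `q'`-index in a given overgroup. -/
theorem exists_not_dvd_relIndex {U H : Subgroup G} (hU : IsPGroup q U) (hUH : U ≤ H) :
    ∃ S ≤ H, U ≤ S ∧ IsPGroup q S ∧ ¬ q ∣ S.relIndex H := by
  obtain ⟨R, hR⟩ := (hU.comap_subtype (K := H)).exists_le_sylow
  refine ⟨(R : Subgroup H).map H.subtype, map_subtype_le _,
    fun x hx => ⟨⟨x, hUH hx⟩, hR hx, rfl⟩, R.2.map _, ?_⟩
  rw [relIndex, subgroupOf, comap_map_eq_self_of_injective H.subtype_injective]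
  exact R.not_dvd_index

section Pair

/-- A quadratic pair whose image is not a `q`-group: some element of even order normalises a
`q`-subgroup containing the first generator. -/
theorem exists_even_normalizing {M : Type*} [Group M] [Finite M] (hq2 : q ≠ 2) (f : G →* M)
    (V : Subgroup M) (hV : IsElementaryAbelian q V) (hfV : f.range ≤ normalizer (V : Set M))
    {x y : G} (hxq : ∃ n : ℕ, x ^ q ^ n = 1)
    (hx : ⁅⁅V, zpowers (f x)⁆, zpowers (f x)⁆ = ⊥) (hy : ⁅⁅V, zpowers (f y)⁆, zpowers (f y)⁆ = ⊥)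
    (hnp : ∃ h ∈ closure ({f x, f y} : Set M), ∀ n : ℕ, h ^ q ^ n ∉ centralizer (V : Set M)) :
    ∃ (P : Subgroup G) (j : G), P ≤ closure {x, y} ∧ j ∈ closure ({x, y} : Set G) ∧ IsPGroup q P ∧
      x ∈ P ∧ j ∈ normalizer (P : Set G) ∧ 2 ∣ orderOf (f j) := by
  classical
  set L₀ := closure ({x, y} : Set G) with hL₀
  set H' := closure ({f x, f y} : Set M) with hH'
  have hmap : L₀.map f = H' := by rw [hL₀, MonoidHom.map_closure, Set.image_pair]
  have hH'r : H' ≤ f.range := hmap ▸ map_le_range f L₀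
  obtain ⟨φ, hφ, hgen, -⟩ :=
    Quadratic.exists_SL2_of_pair V H' hV (hH'r.trans hfV) rfl hx hy hnp
  haveI : Finite φ.range := Finite.of_surjective _ φ.rangeRestrict_surjective
  have h2 : (2 : AlgebraicClosure (ZMod q)) ≠ 0 := Quadratic.two_ne_zero_of_odd (p := q) hq2
  obtain ⟨t, ht⟩ : ∃ t : φ.range, orderOf t = 2 := by
    haveI := Fact.mk Nat.prime_two
    refine exists_prime_orderOf_dvd_card' 2 ?_
    rcases Nat.even_or_odd (Nat.card φ.range) with he | ho
    · exact even_iff_two_dvd.1 he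
    · exact absurd (Quadratic.isPGroup_of_odd φ.range ho hq2 hgen) hφ
  have htneg : (t : SL(2, AlgebraicClosure (ZMod q))) = -1 :=
    PSL2.eq_neg_one_of_orderOf_eq_two h2 (by rw [orderOf_coe, ht])
  let r : L₀ →* H' := (f.comp L₀.subtype).codRestrict H' fun z => hmap ▸ mem_map_of_mem f z.2
  let β : L₀ →* SL(2, AlgebraicClosure (ZMod q)) := φ.comp r
  obtain ⟨⟨w, hw⟩, hwt⟩ := t.2
  obtain ⟨l, hl, hlw⟩ : w ∈ L₀.map f := hmap.ge hw
  have hβl : β ⟨l, hl⟩ = -1 := by
    rw [← htneg, ← hwt]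
    exact congrArg φ (Subtype.ext hlw)
  have hxL : x ∈ L₀ := subset_closure (by simp)
  obtain ⟨n, hn⟩ := hxq
  have hβx : β ⟨x, hxL⟩ ^ q ^ n = 1 := by
    rw [← map_pow, show (⟨x, hxL⟩ : L₀) ^ q ^ n = 1 from Subtype.ext hn, map_one]
  set M₁ := ((zpowers (β ⟨x, hxL⟩)).comap β).map L₀.subtype with hM₁
  have hln : l ∈ normalizer (M₁ : Set G) := by
    refine Subnormal.mem_normalizer_of_cj_le ?_
    rintro _ ⟨_, ⟨z, hz, rfl⟩, rfl⟩
    refine ⟨⟨l, hl⟩ * z * ⟨l, hl⟩⁻¹, ?_, rfl⟩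
    show β (_ * z * _) ∈ zpowers _
    rw [map_mul, map_mul, map_inv, hβl]
    have : (-1 : SL(2, AlgebraicClosure (ZMod q))) * β z = β z * -1 := by
      ext i k; simp
    rw [this, mul_inv_cancel_right]
    exact hz
  have hxp : IsPGroup q (zpowers x) := by
    rintro ⟨_, i, rfl⟩
    refine ⟨n, Subtype.ext ?_⟩
    show (x ^ i) ^ q ^ n = 1
    rw [← zpow_natCast, ← zpow_mul, mul_comm, zpow_mul, zpow_natCast, hn, one_zpow]
  obtain ⟨P, hPM, hxP, hPp, hidx⟩ := exists_not_dvd_relIndex hxp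
    (zpowers_le.2 ⟨⟨x, hxL⟩, mem_zpowers _, rfl⟩ : zpowers x ≤ M₁)
  obtain ⟨m, hm, hmn⟩ := exists_mul_mem_normalizer hPp hPM hidx hln
  obtain ⟨⟨m', hmL⟩, hm', rfl⟩ := hm
  refine ⟨P, m' * l, hPM.trans (map_subtype_le _), mul_mem hmL hl, hPp, hxP (mem_zpowers x), hmn, ?_⟩
  by_contra hodd
  set o := orderOf (f (m' * l)) with ho
  have hj : β (⟨m', hmL⟩ * ⟨l, hl⟩) ^ o = 1 := by
    rw [← map_pow]
    show φ (r _) = 1
    rw [show r ((⟨m', hmL⟩ * ⟨l, hl⟩ : L₀) ^ o) = 1 from Subtype.ext (by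
      show f ((m' * l) ^ o) = 1
      rw [map_pow, ho, pow_orderOf_eq_one]), map_one]
  obtain ⟨i, hi⟩ := hm'
  dsimp only at hi
  have hodd' : Odd o := Nat.not_even_iff_odd.1 fun h => hodd (even_iff_two_dvd.1 h)
  have hc : Commute (β ⟨m', hmL⟩) (-1) := by ext i k; simp
  have hneg : (-1 : SL(2, AlgebraicClosure (ZMod q))) ^ o = -1 := hodd'.neg_one_pow
  rw [map_mul, hβl, hc.mul_pow, hneg, mul_eq_one_iff_eq_inv] at hj
  have h1 : (-1 : SL(2, AlgebraicClosure (ZMod q))) ^ q ^ n = 1 := by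
    have he : (β ⟨m', hmL⟩ ^ o) ^ q ^ n = 1 := by
      rw [← hi, ← zpow_natCast (_ ^ i) o, ← zpow_mul, ← zpow_natCast, ← zpow_mul,
        show i * (o : ℤ) * ((q ^ n : ℕ) : ℤ) = ((q ^ n : ℕ) : ℤ) * (i * o) by ring, zpow_mul,
        zpow_natCast, hβx, one_zpow]
    rw [hj, inv_pow, inv_eq_one] at he
    exact he
  have hqo : Odd (q ^ n) := (hq.out.odd_of_ne_two hq2).pow
  rw [hqo.neg_one_pow] at h1
  have h3 : orderOf (-1 : SL(2, AlgebraicClosure (ZMod q))) = 2 := htneg ▸ (orderOf_coe t).trans ht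
  rw [h1, orderOf_one] at h3
  exact absurd h3 (by norm_num)

end Pair

omit [Finite G] in
theorem le_of_map_eq_self {H : Subgroup G} {g : G} (h : g ∈ normalizer (H : Set G)) :
    H.map (MulAut.conj g).toMonoidHom ≤ H := by
  rintro _ ⟨x, hx, rfl⟩
  exact (mem_normalizer_iff.1 h x).1 hx

/-- The induction. -/
theorem inv_normalizer_zjA_aux (hq2 : q ≠ 2) (n : ℕ) :
    ∀ (G : Type u) [Group G] [Finite G], Nat.card G = n → ∀ T : Sylow q G,
      Inv q (⊤ : Subgroup G) → Inv q (normalizer (zjA G (T : Subgroup G) : Set G)) := by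
  classical
  induction n using Nat.strong_induction_on with
  | _ n ih =>
  intro G _ _ hn T hinv
  by_contra hgoal
  have hF : IsZJLike.{u} q zjA := isZJLike_A hq2
  -- induction in proper subgroups
  have hsub : ∀ H : Subgroup G, H ≠ ⊤ → Inv q H → ∀ S : Subgroup G, S ≤ H → IsPGroup q S →
      ¬ q ∣ S.relIndex H → Inv q (normalizer (zjA G S : Set G)) := by
    intro H hH hi S hSH hS hidx
    set R : Sylow q H := (hS.comap_subtype (K := H)).toSylow hidx
    have hlt : Nat.card H < n := hn ▸ lt_of_le_of_ne (card_le_card_group H)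
      fun e => hH (eq_top_of_card_eq H e)
    have h := (ih _ hlt H rfl R ((inv_top_iff H).2 hi)).map H.subtype H.subtype_injective
    refine h.mono ((le_normalizer_map H.subtype).trans (le_of_eq ?_))
    rw [← hF.map_subtype, show (R : Subgroup H) = S.subgroupOf H from rfl,
      subgroupOf_map_subtype, inf_eq_left.2 hSH]
  -- overgroups of Sylow subgroups with inversions
  have hfull : ∀ (H : Subgroup G) (T' : Sylow q G), (T' : Subgroup G) ≤ H → Inv q H → H = ⊤ := by
    intro H T' hT' hi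
    by_contra hH
    have h := hsub H hH hi T' hT' T'.2
      fun hd => T'.not_dvd_index (hd.trans (relIndex_dvd_index_of_le hT'))
    obtain ⟨g, hg⟩ := MulAction.exists_smul_eq G T' T
    have hgT : (T : Subgroup G) = (T' : Subgroup G).map (MulAut.conj g).toMonoidHom := by
      rw [← hg, Sylow.coe_subgroup_smul, pointwise_smul_def]
      rfl
    apply hgoal
    rw [hgT, hF.map_conj]
    exact (h.map _ (MulAut.conj g).injective).mono (le_normalizer_map _)
  -- `O_{q'}(G) = 1`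
  set K := Cfsg.pPrimeCore q G with hKdef
  have hK : K = ⊥ := by
    by_contra hK
    have hKc : (Nat.card K).Coprime q := PCore.coprime_card_pPrimeCore
    obtain ⟨x, -, g, -, hx1, ⟨k, hxq⟩, hgx⟩ := hinv
    set π := QuotientGroup.mk' K with hπ
    have hlt : Nat.card (G ⧸ K) < n := by
      rw [← hn, card_eq_card_quotient_mul_card_subgroup K]
      exact lt_mul_of_one_lt_right Nat.card_pos (one_lt_card_iff_ne_bot K |>.2 hK)
    have hinj : ∀ P : Subgroup G, IsPGroup q P → ∀ y ∈ P, π y = 1 → y = 1 := fun P hP y hy e =>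
      disjoint_def.1 (PCore.disjoint_of_isPGroup_of_coprime hP hKc) hy
        ((QuotientGroup.eq_one_iff y).1 e)
    have hxZ : IsPGroup q (zpowers x) := by
      rintro ⟨_, i, rfl⟩
      refine ⟨k, Subtype.ext ?_⟩
      show (x ^ i) ^ q ^ k = 1
      rw [← zpow_natCast, ← zpow_mul, mul_comm, zpow_mul, zpow_natCast, hxq, one_zpow]
    have hi : Inv q (⊤ : Subgroup (G ⧸ K)) :=
      ⟨π x, mem_top _, π g, mem_top _, fun e => hx1 (hinj _ hxZ x (mem_zpowers x) e),
        ⟨k, by rw [← map_pow, hxq, map_one]⟩, by rw [← map_inv, ← map_mul, ← map_mul, hgx, map_inv]⟩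
    have h := ih _ hlt (G ⧸ K) rfl (T.mapSurjective (QuotientGroup.mk'_surjective K)) hi
    rw [Sylow.coe_mapSurjective, hF.map G (G ⧸ K) π T (hinj _ T.2)] at h
    exact hgoal (inv_of_map hKc (h.mono (normalizer_map_le hKc (T.2.to_le (hF.le G T)))))
  -- `Q = O_q(G) ≠ 1`
  set Q := Cfsg.pCore q G with hQdef
  have hQp : IsPGroup q Q := PCore.isPGroup_pCore
  have hQ : Q ≠ ⊥ := by
    by_contra hQ
    by_cases hprop : ∃ H : Subgroup G, H ≠ ⊤ ∧ Inv q H
    · set 𝒮 := {S : Subgroup G | IsPGroup q S ∧ ∃ H : Subgroup G, H ≠ ⊤ ∧ Inv q H ∧ S ≤ H ∧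
        ¬ q ∣ S.relIndex H} with h𝒮
      have hne : 𝒮.Nonempty := by
        obtain ⟨H, hH, hi⟩ := hprop
        obtain ⟨S, hSH, -, hS, hidx⟩ := exists_not_dvd_relIndex (U := (⊥ : Subgroup G))
          (IsPGroup.of_bot (p := q)) (bot_le : ⊥ ≤ H)
        exact ⟨S, hS, H, hH, hi, hSH, hidx⟩
      obtain ⟨S, ⟨hS, H, hH, hi, hSH, hidx⟩, hmax⟩ :=
        Set.exists_max_image 𝒮 (fun S => Nat.card S) (Set.toFinite _) hne
      obtain ⟨T', hT'⟩ := hS.exists_le_sylow
      have hlt : S < (T' : Subgroup G) := lt_of_le_of_ne hT' fun e =>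
        hH (hfull H T' (e ▸ hSH) hi)
      have h1 := Transfer.lt_inf_normalizer_of_lt T'.2 hlt
      have hW : Inv q (normalizer (zjA G S : Set G)) := hsub H hH hi S hSH hS hidx
      set W := normalizer (zjA G S : Set G) with hWdef
      have hWt : W = ⊤ := by
        by_contra hWn
        obtain ⟨S', hS'W, hle, hS', hidx'⟩ := exists_not_dvd_relIndex
          (T'.2.to_le inf_le_left : IsPGroup q ↥((T' : Subgroup G) ⊓ normalizer (S : Set G)))
          (inf_le_right.trans (hF.normalizer_le S))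
        have h2 := hmax S' ⟨hS', W, hWn, hW, hS'W, hidx'⟩
        exact absurd (eq_of_le_of_card_ge (h1.le.trans hle) h2)
          (ne_of_lt (h1.trans_le hle))
      have hZn : (zjA G S).Normal := normalizer_eq_top_iff.1 hWt
      have hS1 : S ≠ ⊥ := by
        rintro rfl
        obtain ⟨x, hxH, g, -, hx1, ⟨k, hxk⟩, -⟩ := hi
        refine hidx ?_
        rw [relIndex_bot_left]
        have : orderOf (⟨x, hxH⟩ : H) ∣ Nat.card H := orderOf_dvd_natCard _
        rw [orderOf_mk] at this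
        refine dvd_trans ?_ this
        obtain ⟨i, -, hi⟩ := (Nat.dvd_prime_pow hq.out).1 (orderOf_dvd_of_pow_eq_one hxk)
        rcases i with _ | i
        · exact absurd (orderOf_eq_one_iff.1 (by simpa using hi)) hx1
        · rw [hi]; exact dvd_pow_self q i.succ_ne_zero
      have := PCore.le_pCore (hN := hZn) (hS.to_le (hF.le G S))
      exact hF.ne_bot G S hS hS1 (le_bot_iff.1 (this.trans hQ.le))
    · push Not at hprop
      obtain ⟨x, -, g, -, hx1, ⟨k, hxk⟩, hgx⟩ := hinv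
      have htop : closure ({x, g} : Set G) = ⊤ := by
        by_contra h
        exact hprop _ h ⟨x, subset_closure (by simp), g, subset_closure (by simp), hx1, ⟨k, hxk⟩, hgx⟩
      have hnx : (zpowers x).Normal := by
        rw [← normalizer_eq_top_iff, eq_top_iff, ← htop, closure_le]
        rintro z (hz | hz)
        · rw [hz]; exact le_normalizer (mem_zpowers x)
        · rw [hz]
          refine Subnormal.mem_normalizer_of_cj_le ?_
          show (zpowers x).map (MulAut.conj g).toMonoidHom ≤ zpowers x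
          rw [MonoidHom.map_zpowers, zpowers_le]
          show g * x * g⁻¹ ∈ zpowers x
          rw [hgx]
          exact inv_mem (mem_zpowers x)
      have := PCore.le_pCore (hN := hnx) (show IsPGroup q (zpowers x) by
        rintro ⟨_, i, rfl⟩
        refine ⟨k, Subtype.ext ?_⟩
        show (x ^ i) ^ q ^ k = 1
        rw [← zpow_natCast, ← zpow_mul, mul_comm, zpow_mul, zpow_natCast, hxk, one_zpow])
      rw [← hQdef, hQ, zpowers_le, mem_bot] at this
      exact hx1 this
  -- no inversion in `G/Q`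
  have hquot : ¬ Inv q (⊤ : Subgroup (G ⧸ Q)) := by
    intro hi
    set π := QuotientGroup.mk' Q with hπ
    have hlt : Nat.card (G ⧸ Q) < n := by
      rw [← hn, card_eq_card_quotient_mul_card_subgroup Q]
      exact lt_mul_of_one_lt_right Nat.card_pos (one_lt_card_iff_ne_bot Q |>.2 hQ)
    have h := ih _ hlt (G ⧸ Q) rfl (T.mapSurjective (QuotientGroup.mk'_surjective Q)) hi
    rw [Sylow.coe_mapSurjective] at h
    set Z := zjA (G ⧸ Q) ((T : Subgroup G).map π) with hZ
    set N := normalizer (Z : Set (G ⧸ Q)) with hN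
    have hTN : (T : Subgroup G) ≤ N.comap π :=
      map_le_iff_le_comap.1 (le_normalizer.trans (hF.normalizer_le _))
    obtain ⟨_, hx, _, hg, hx1, ⟨k, hxk⟩, hgx⟩ := h
    rename_i xb gb
    obtain ⟨x₀, rfl⟩ := QuotientGroup.mk'_surjective Q xb
    obtain ⟨g, rfl⟩ := QuotientGroup.mk'_surjective Q gb
    have hKne : N.comap π ≠ ⊤ := by
      intro e
      have hNt : N = ⊤ := by
        rw [← map_comap_eq_self_of_surjective (QuotientGroup.mk'_surjective Q) N, e,
          map_top_of_surjective _ (QuotientGroup.mk'_surjective Q)]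
      have hZn : Z.Normal := normalizer_eq_top_iff.1 hNt
      have hTp : IsPGroup q ((T : Subgroup G).map π) := T.2.map π
      have hle := PCore.le_pCore (hN := hZn) (hTp.to_le (hF.le _ _))
      have h0 : Cfsg.pCore q (G ⧸ Q) = ⊥ := PCore.pCore_quotient_self_eq_bot
      rw [h0, le_bot_iff] at hle
      refine hF.ne_bot _ _ hTp (fun hbot => ?_) hle
      have hd := (T.mapSurjective (QuotientGroup.mk'_surjective Q)).not_dvd_index
      rw [Sylow.coe_mapSurjective, hbot, index_bot] at hd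
      have h2 : orderOf (π x₀) ∣ Nat.card (G ⧸ Q) := orderOf_dvd_natCard _
      obtain ⟨i, -, hi⟩ := (Nat.dvd_prime_pow hq.out).1 (orderOf_dvd_of_pow_eq_one hxk)
      rcases i with _ | i
      · exact hx1 (orderOf_eq_one_iff.1 (by simpa using hi))
      · exact hd (dvd_trans (hi ▸ dvd_pow_self q i.succ_ne_zero) h2)
    refine hKne (hfull _ T hTN ?_)
    -- lift the inversion
    have hxp : IsPGroup q (zpowers (π x₀)) := by
      rintro ⟨_, i, rfl⟩
      refine ⟨k, Subtype.ext ?_⟩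
      show (π x₀ ^ i) ^ q ^ k = 1
      rw [← zpow_natCast, ← zpow_mul, mul_comm, zpow_mul, zpow_natCast, hxk, one_zpow]
    set Y := (zpowers (π x₀)).comap π with hY
    have hYp : IsPGroup q Y := hxp.comap_of_ker_isPGroup π (by rwa [QuotientGroup.ker_mk'])
    have hne : g ∉ (centralizer {π x₀}).comap π := by
      intro hc
      have hc' : π x₀ * π g = π g * π x₀ := mem_centralizer_iff.1 hc _ rfl
      rw [← hc', mul_inv_cancel_right] at hgx
      have h2 : π x₀ ^ 2 = 1 := by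
        rw [sq]; nth_rw 1 [hgx]; exact inv_mul_cancel _
      have h3 : orderOf (π x₀) ∣ Nat.gcd 2 (q ^ k) :=
        Nat.dvd_gcd (orderOf_dvd_of_pow_eq_one h2) (orderOf_dvd_of_pow_eq_one hxk)
      rw [((Nat.coprime_primes Nat.prime_two hq.out).2 (Ne.symm hq2)).pow_right k] at h3
      exact hx1 (orderOf_eq_one_iff.1 (Nat.dvd_one.1 h3))
    have hg2 : g * g ∈ (centralizer {π x₀}).comap π := by
      refine mem_centralizer_iff.2 ?_
      rintro _ rfl
      have h4 : π g * (π x₀)⁻¹ * (π g)⁻¹ = π x₀ := by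
        calc π g * (π x₀)⁻¹ * (π g)⁻¹ = (π g * π x₀ * (π g)⁻¹)⁻¹ := by group
          _ = π x₀ := by rw [hgx, inv_inv]
      rw [map_mul]
      calc π x₀ * (π g * π g) = π g * (π x₀)⁻¹ * (π g)⁻¹ * (π g * π g) := by rw [h4]
        _ = π g * (π g * π x₀ * (π g)⁻¹) * π g := by
            rw [show π g * π x₀ * (π g)⁻¹ = (π x₀)⁻¹ from hgx]; group
        _ = π g * π g * π x₀ := by group
    obtain ⟨h, hhg, hhn, -, j, hhj⟩ := exists_two_element hne hg2
    refine inv_of_moves hYp (comap_mono (zpowers_le.2 hx)) j h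
      (zpowers_le.2 (show g ∈ N.comap π from hg) hhg) hhj ?_ ?_
    · refine zpowers_le.2 (Subnormal.mem_normalizer_of_cj_le ?_) hhg
      rintro _ ⟨y, hy, rfl⟩
      obtain ⟨i, hi⟩ := hy
      refine ⟨-i, ?_⟩
      show π x₀ ^ (-i) = π (g * y * g⁻¹)
      dsimp only at hi
      rw [map_mul, map_mul, map_inv, ← hi, ← conj_zpow, hgx, inv_zpow, zpow_neg]
    · refine ⟨x₀, mem_zpowers (π x₀), fun e => hhn (mem_centralizer_iff.2 ?_)⟩
      rintro _ rfl
      rw [← map_mul, ← map_mul]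
      congr 1
      conv_lhs => rw [← e]
      group
  -- `C(Q) ≤ Q`
  obtain ⟨x, -, g, -, hx1, ⟨k, hxk⟩, hgx⟩ := hinv
  have hxQ : x ∈ Q := by
    by_contra hxQ
    refine hquot ⟨QuotientGroup.mk' Q x, mem_top _, QuotientGroup.mk' Q g, mem_top _,
      fun e => hxQ ((QuotientGroup.eq_one_iff x).1 e), ⟨k, ?_⟩, ?_⟩
    · rw [← map_pow, hxk, map_one]
    · rw [← map_inv, ← map_mul, ← map_mul, hgx, map_inv]
  set C := centralizer (Q : Set G) with hCdef
  haveI hCn : C.Normal := by rw [hCdef]; exact normal_centralizer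
  set M := C ⊔ Q with hMdef
  have hC2 : ∀ h : G, h ∈ M → (∃ i : ℕ, h ^ 2 ^ i = 1) → h ∈ C := by
    intro h hh ⟨i, hi⟩
    obtain ⟨c, hc, y, hy, rfl⟩ := mem_sup_of_normal_left.1 hh
    obtain ⟨m, hm⟩ := hQp ⟨y, hy⟩
    have hm' : y ^ q ^ m = 1 := congrArg Subtype.val hm
    have h1 : (QuotientGroup.mk' C (c * y)) ^ q ^ m = 1 := by
      rw [map_mul, show QuotientGroup.mk' C c = 1 from (QuotientGroup.eq_one_iff c).2 hc, one_mul,
        ← map_pow, hm', map_one]
    have h2 : (QuotientGroup.mk' C (c * y)) ^ 2 ^ i = 1 := by rw [← map_pow, hi, map_one]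
    refine (QuotientGroup.eq_one_iff _).1 ?_
    have h3 := Nat.dvd_gcd (orderOf_dvd_of_pow_eq_one h2) (orderOf_dvd_of_pow_eq_one h1)
    rw [(((Nat.coprime_primes Nat.prime_two hq.out).2 (Ne.symm hq2)).pow_left i).pow_right m] at h3
    exact orderOf_eq_one_iff.1 (Nat.dvd_one.1 h3)
  -- an element of even order modulo `M`
  obtain ⟨e, heM, he2⟩ : ∃ e : G, e ∉ M ∧ e * e ∈ M := by
    have hne : g ∉ centralizer ({x} : Set G) := by
      intro hc
      have hc' : x * g = g * x := mem_centralizer_iff.1 hc _ rfl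
      rw [← hc', mul_inv_cancel_right] at hgx
      have h2 : x ^ 2 = 1 := by rw [sq]; nth_rw 1 [hgx]; exact inv_mul_cancel _
      have h3 := Nat.dvd_gcd (orderOf_dvd_of_pow_eq_one h2) (orderOf_dvd_of_pow_eq_one hxk)
      rw [((Nat.coprime_primes Nat.prime_two hq.out).2 (Ne.symm hq2)).pow_right k] at h3
      exact hx1 (orderOf_eq_one_iff.1 (Nat.dvd_one.1 h3))
    have hg2 : g * g ∈ centralizer ({x} : Set G) := by
      refine mem_centralizer_iff.2 fun z hz => ?_
      rw [show z = x from hz]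
      calc x * (g * g) = (g * x⁻¹ * g⁻¹) * (g * g) := by
            rw [show g * x⁻¹ * g⁻¹ = (g * x * g⁻¹)⁻¹ by group, hgx, inv_inv]
        _ = g * (g * x * g⁻¹) * g := by rw [hgx]; group
        _ = g * g * x := by group
    obtain ⟨h, -, hhn, -, i, hi⟩ := exists_two_element hne hg2
    have hhM : h ∉ M := fun hh => hhn (mem_centralizer_iff.2 fun z hz =>
      hz ▸ mem_centralizer_iff.1 (hC2 h hh ⟨i, hi⟩) x hxQ)
    clear hhn hne hg2
    induction i generalizing h with
    | zero => exact absurd (by rw [show h = 1 by simpa using hi]; exact one_mem M) hhM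
    | succ i ihi =>
      by_cases h2 : h * h ∈ M
      · exact ⟨h, hhM, h2⟩
      · exact ihi (h * h) (by rw [← sq, ← pow_mul, ← pow_succ']; exact hi) h2
  have hQT : Q ≤ T := PCore.pCore_le_sylow T
  have hT1 : (T : Subgroup G) ⊓ M ≤ Q := by
    set T₁ := (T : Subgroup G) ⊓ M with hT₁
    have hTn : (T : Subgroup G) ≤ normalizer (T₁ : Set G) := fun t ht =>
      inf_normalizer_le_normalizer_inf ⟨le_normalizer ht, (normalizer_eq_top (H := M)).symm ▸ mem_top t⟩
    obtain ⟨m, hm, hme⟩ := exists_mul_mem_normalizer (T.2.to_le inf_le_left : IsPGroup q T₁)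
      inf_le_right (not_dvd_relIndex_inf (H := ⊤) (S := (T : Subgroup G))
        (by rw [relIndex_top_right]; exact T.not_dvd_index) le_top le_top
        fun t _ => (normalizer_eq_top (H := M)).symm ▸ mem_top t)
      ((normalizer_eq_top (H := M)).symm ▸ mem_top e)
    have hme1 : m * e ∉ M := fun h => heM (by simpa using mul_mem (inv_mem hm) h)
    have hme2 : (m * e) * (m * e) ∈ M := by
      rw [show (m * e) * (m * e) = m * (e * m * e⁻¹) * (e * e) by group]
      exact mul_mem (mul_mem hm ((inferInstance : M.Normal).conj_mem m hm e)) he2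
    obtain ⟨h, hh, hhM, -, i, hi⟩ := exists_two_element hme1 hme2
    have hi' : Inv q (normalizer (T₁ : Set G)) := by
      refine inv_of_moves hQp (hQT.trans hTn) i h (zpowers_le.2 hme hh) hi
        ((normalizer_eq_top (H := Q)).symm ▸ mem_top h) ?_
      by_contra hall
      push Not at hall
      exact hhM (le_sup_left (a := C) (mem_centralizer_iff.2 fun y hy => by
        conv_lhs => rw [← hall y hy]
        group))
    haveI : T₁.Normal := normalizer_eq_top_iff.1 (hfull _ T hTn hi')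
    exact PCore.le_pCore (T.2.to_le inf_le_left)
  have hCQ : C ≤ Q := by
    obtain ⟨R, hR⟩ := SylowCount.exists_sylow_inf T C
    have hRQ : ∀ r : C, r ∈ (R : Subgroup C) → (r : G) ∈ Q := fun r hr =>
      hT1 ⟨by rw [hR] at hr; exact hr, le_sup_left (a := C) r.2⟩
    have hP : normalizer ((R : Subgroup C) : Set C) ≤ centralizer ((R : Subgroup C) : Set C) :=
      fun c _ => mem_centralizer_iff.2 fun r hr =>
        Subtype.ext (mem_centralizer_iff.1 c.2 (r : G) (hRQ r hr))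
    have hcomp := MonoidHom.ker_transferSylow_isComplement' R hP
    set K₀ := (MonoidHom.transferSylow R hP).ker
    have hK₀ : K₀ ≤ Cfsg.pPrimeCore q C := by
      refine PCore.le_pPrimeCore ?_
      rw [← hcomp.index_eq_card]
      exact ((hq.out.coprime_iff_not_dvd).2 R.not_dvd_index).symm
    have hbot : Cfsg.pPrimeCore q C = ⊥ := by
      refine (map_eq_bot_iff_of_injective _ C.subtype_injective).1 ?_
      rw [PCore.map_pPrimeCore_subtype_of_normal, ← hKdef, hK, bot_inf_eq]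
    intro c hc
    have htop : (⟨c, hc⟩ : C) ∈ K₀ ⊔ (R : Subgroup C) := by rw [hcomp.sup_eq_top]; exact mem_top _
    rw [le_bot_iff.1 (hK₀.trans hbot.le), bot_sup_eq] at htop
    exact hRQ _ htop
  -- involutions in overgroups of a Sylow subgroup
  have hodd : ∀ (H : Subgroup G) (T' : Sylow q G), (T' : Subgroup G) ≤ H →
      ∀ h ∈ H, h ≠ 1 → (∃ i : ℕ, h ^ 2 ^ i = 1) → H = ⊤ := by
    intro H T' hT' h hh h1 ⟨i, hi⟩
    refine hfull H T' hT' (inv_of_moves hQp ((PCore.pCore_le_sylow T').trans hT') i h hh hi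
      ((normalizer_eq_top (H := Q)).symm ▸ mem_top h) ?_)
    by_contra hall
    push Not at hall
    have hhQ : h ∈ Q := hCQ (mem_centralizer_iff.2 fun y hy => by
      conv_lhs => rw [← hall y hy]
      group)
    obtain ⟨m, hm⟩ := hQp ⟨h, hhQ⟩
    have hm' : h ^ q ^ m = 1 := congrArg Subtype.val hm
    have h3 := Nat.dvd_gcd (orderOf_dvd_of_pow_eq_one hi) (orderOf_dvd_of_pow_eq_one hm')
    rw [(((Nat.coprime_primes Nat.prime_two hq.out).2 (Ne.symm hq2)).pow_left i).pow_right m] at h3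
    exact h1 (orderOf_eq_one_iff.1 (Nat.dvd_one.1 h3))
  -- `G` is not `q`-stable on some elementary abelian section
  have hnst : ∃ (N : Subgroup G) (_ : N.Normal) (U : Subgroup (G ⧸ N)) (_ : U.Normal),
      IsElementaryAbelian q U ∧ ¬ Cfsg.IsPStableOn q U := by
    by_contra hall
    have hst : Replacement.StableOn q (T : Subgroup G) :=
      Replacement.stableOn_of_isPStableOn _ fun V hV hVp =>
        Replacement.isPStableOn_of_frattini_quotient (hp := hq) V hVp fun N hN U hUn hU => by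
          by_contra hc
          exact hall ⟨N, hN, U, hUn, hU, hc⟩
    have hn' := hF.normal G T T (Replacement.isStronglyClosed_self _) hst hCQ
    exact hgoal (by rw [normalizer_eq_top (H := zjA G (T : Subgroup G))];
                    exact ⟨x, mem_top _, g, mem_top _, hx1, ⟨k, hxk⟩, hgx⟩)
  obtain ⟨N, hN, U, hUn, hU, hunst⟩ := hnst
  obtain ⟨a₀, ha₀q, ha₀⟩ : ∃ a : G ⧸ N, ⁅⁅U, zpowers a⁆, zpowers a⁆ = ⊥ ∧
      a ∉ (Cfsg.pCore q ((G ⧸ N) ⧸ centralizer (U : Set (G ⧸ N)))).comap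
        (QuotientGroup.mk' (centralizer (U : Set (G ⧸ N)))) := by
    unfold Cfsg.IsPStableOn at hunst
    push Not at hunst
    exact hunst
  set f : G →* Offender.Model U := (Offender.toModel U).comp (QuotientGroup.mk' N) with hf
  set V := Offender.modelV U with hVdef
  have hfV : f.range ≤ normalizer (V : Set (Offender.Model U)) :=
    (by rintro _ ⟨z, rfl⟩; exact ⟨_, rfl⟩ : f.range ≤ (Offender.toModel U).range).trans
      (Offender.range_toModel_le_normalizer U)
  have hVel : IsElementaryAbelian q V := Offender.isElementaryAbelian_modelV U hU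
  have hfaith : f.range ⊓ centralizer (V : Set (Offender.Model U)) = ⊥ := le_bot_iff.1
    ((inf_le_inf_right _ (by rintro _ ⟨z, rfl⟩; exact ⟨_, rfl⟩ :
      f.range ≤ (Offender.toModel U).range)).trans (Offender.range_toModel_inf_centralizer U).le)
  let Quad : G → Prop := fun z =>
    (∃ m : ℕ, z ^ q ^ m = 1) ∧ ⁅⁅V, zpowers (f z)⁆, zpowers (f z)⁆ = ⊥
  -- a quadratic `q`-element of the wrong kind
  set fr := (⊤ : Subgroup G).map f with hfr
  let f' : G →* fr := f.codRestrict fr fun z => mem_map_of_mem f (mem_top z)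
  have hf's : Function.Surjective f' := by
    rintro ⟨_, z, -, rfl⟩
    exact ⟨z, rfl⟩
  obtain ⟨a₁, rfl⟩ := QuotientGroup.mk'_surjective N a₀
  obtain ⟨a, haQuad, hfa⟩ : ∃ a : G, Quad a ∧ f' a ∉ Cfsg.pCore q fr := by
    have hquad : ⁅⁅V, zpowers (f a₁)⁆, zpowers (f a₁)⁆ = ⊥ := by
      have hstep : ∀ W : Subgroup (G ⧸ N), W ≤ U →
          ⁅(W.subgroupOf U).map (Offender.ofV U), zpowers (f a₁)⁆ ≤
            ((⁅W, zpowers (QuotientGroup.mk' N a₁)⁆).subgroupOf U).map (Offender.ofV U) := by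
        intro W hW
        rw [commutator_le]
        rintro _ ⟨w, hw, rfl⟩ _ ⟨i, rfl⟩
        dsimp only
        set b := QuotientGroup.mk' N a₁ ^ i with hb
        have hfb : f a₁ ^ i = Offender.toModel U b := by
          rw [hb, map_zpow (Offender.toModel U)]; rfl
        rw [hfb]
        refine ⟨w * (⟨b * ((w⁻¹ : U) : G ⧸ N) * b⁻¹, hUn.conj_mem _ (w⁻¹).2 b⟩ : U), ?_, ?_⟩
        · rw [SetLike.mem_coe, mem_subgroupOf]
          show (w : G ⧸ N) * (b * (w : G ⧸ N)⁻¹ * b⁻¹) ∈ _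
          rw [show (w : G ⧸ N) * (b * (w : G ⧸ N)⁻¹ * b⁻¹) = ⁅(w : G ⧸ N), b⁆ by
            rw [commutatorElement_def]; group]
          exact commutator_mem_commutator hw ⟨i, rfl⟩
        · rw [map_mul, ← Offender.toModel_conj, map_inv, commutatorElement_def]
          group
      have h1 : ⁅U, zpowers (QuotientGroup.mk' N a₁)⁆ ≤ U := commutator_le_left _ _
      have h0 := hstep U le_rfl
      rw [subgroupOf_self, ← MonoidHom.range_eq_map] at h0
      refine le_bot_iff.1 ((commutator_mono h0 le_rfl).trans ((hstep _ h1).trans ?_))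
      rw [ha₀q, bot_subgroupOf, Subgroup.map_bot]
    have hfq : f a₁ ^ q = 1 := by
      have hx : f a₁ ^ q ∈ f.range ⊓ centralizer (V : Set (Offender.Model U)) := by
        refine ⟨⟨a₁ ^ q, map_pow f a₁ q⟩, mem_centralizer_iff.2 fun v hv => ?_⟩
        set x := f a₁
        set c := v * x * v⁻¹ * x⁻¹ with hc
        have hcm : c ∈ ⁅V, zpowers x⁆ := commutator_mem_commutator hv (mem_zpowers x)
        have hcx : x * c = c * x :=
          commutator_eq_bot_iff_le_centralizer.1 hquad hcm x (mem_zpowers x)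
        have hcV : c ∈ V := by
          have hnx : x ∈ normalizer (V : Set (Offender.Model U)) := hfV ⟨a₁, rfl⟩
          rw [hc, mul_assoc, mul_assoc]
          exact mul_mem hv (by
            rw [← mul_assoc]; exact (mem_normalizer_iff.1 hnx _).1 (inv_mem hv))
        have key : ∀ m : ℕ, x ^ m * v⁻¹ = v⁻¹ * c ^ m * x ^ m := by
          intro m
          induction m with
          | zero => simp
          | succ m ihm =>
            have hcm' : x ^ m * c = c * x ^ m := (Commute.pow_left hcx m).eq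
            calc x ^ (m + 1) * v⁻¹ = x ^ m * (x * v⁻¹) := by rw [pow_succ, mul_assoc]
              _ = x ^ m * (v⁻¹ * c * x) := by rw [hc]; group
              _ = (x ^ m * v⁻¹) * c * x := by group
              _ = v⁻¹ * c ^ m * (x ^ m * c) * x := by rw [ihm]; group
              _ = v⁻¹ * c ^ (m + 1) * x ^ (m + 1) := by rw [hcm', pow_succ, pow_succ]; group
        have hkq := key q
        rw [hVel.2 c hcV, mul_one] at hkq
        calc v * x ^ q = v * (x ^ q * v⁻¹) * v := by group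
          _ = x ^ q * v := by rw [hkq]; group
      rwa [hfaith, mem_bot] at hx
    obtain ⟨i, m, hm, him⟩ :=
      Nat.exists_eq_pow_mul_and_not_dvd (orderOf_pos a₁).ne' q hq.out.ne_one
    refine ⟨a₁ ^ m, ⟨⟨i, by rw [← pow_mul, mul_comm, ← him, pow_orderOf_eq_one]⟩, ?_⟩, ?_⟩
    · refine le_bot_iff.1 (hquad ▸ commutator_mono (commutator_mono le_rfl ?_) ?_) <;>
        exact zpowers_le.2 (by rw [map_pow]; exact pow_mem (mem_zpowers _) _)
    · intro hmem
      apply ha₀
      set D := centralizer (U : Set (G ⧸ N))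
      set ψ := (QuotientGroup.mk' D).comp (QuotientGroup.mk' N) with hψ
      have hker : f'.ker ≤ ψ.ker := by
        intro z hz
        refine (QuotientGroup.eq_one_iff (N := D) _).2 ?_
        show QuotientGroup.mk' N z ∈ centralizer (U : Set (G ⧸ N))
        rw [← Offender.ker_toModel U]
        exact congrArg Subtype.val (MonoidHom.mem_ker.1 hz)
      let θ : fr →* (G ⧸ N) ⧸ D := f'.liftOfSurjective hf's ⟨ψ, hker⟩
      have hθ : ∀ z, θ (f' z) = ψ z := MonoidHom.liftOfRightInverse_comp_apply f' _ _ ⟨ψ, hker⟩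
      have hθs : Function.Surjective θ := by
        intro w
        obtain ⟨z, rfl⟩ := QuotientGroup.mk'_surjective D w
        obtain ⟨z, rfl⟩ := QuotientGroup.mk'_surjective N z
        exact ⟨f' z, hθ z⟩
      have h1 : ψ a₁ ^ m ∈ Cfsg.pCore q ((G ⧸ N) ⧸ D) := by
        rw [← map_pow, ← hθ]
        exact PCore.map_pCore_le θ hθs ⟨_, hmem, rfl⟩
      have h3 : ψ a₁ ^ q = 1 := by
        rw [← map_pow]
        exact hker (Subtype.ext (by show f (a₁ ^ q) = 1; rw [map_pow, hfq]))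
      obtain ⟨u, hu⟩ := exists_pow_eq_self_of_coprime (Nat.Coprime.symm
        (Nat.Coprime.coprime_dvd_left (orderOf_dvd_of_pow_eq_one h3)
          ((hq.out.coprime_iff_not_dvd).2 hm)))
      show ψ a₁ ∈ Cfsg.pCore q ((G ⧸ N) ⧸ D)
      rw [← hu]
      exact pow_mem h1 u
  let W : Subgroup G → Subgroup G := fun S => Q ⊔ closure {z | z ∈ S ∧ Quad z}
  have hQW : ∀ S, Q ≤ W S := fun S => le_sup_left
  have hWmem : ∀ {S : Subgroup G} {z : G}, z ∈ S → Quad z → z ∈ W S := fun hz hQz =>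
    mem_sup_right (subset_closure ⟨hz, hQz⟩)
  have hWm : ∀ {S S' : Subgroup G}, (∀ z ∈ S, Quad z → z ∈ S') → W S ≤ W S' := fun {S S'} h =>
    sup_le_sup_left (closure_mono fun z hz => show z ∈ S' ∧ Quad z from ⟨h z hz.1 hz.2, hz.2⟩) _
  have hWle : ∀ {S : Subgroup G}, Q ≤ S → W S ≤ S := fun h =>
    sup_le h ((closure_le _).2 fun z hz => hz.1)
  have hWW : ∀ S, W (W S) = W S := fun S =>
    le_antisymm (hWle (hQW S)) (hWm fun z hz hQz => hWmem hz hQz)
  have hWc : ∀ S : Subgroup G, normalizer (S : Set G) ≤ normalizer (W S : Set G) := by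
    intro S g hg
    refine Subnormal.mem_normalizer_of_cj_le ?_
    show (W S).map (MulAut.conj g).toMonoidHom ≤ W S
    simp only [W]
    rw [Subgroup.map_sup, MonoidHom.map_closure]
    refine sup_le_sup (le_of_map_eq_self ((normalizer_eq_top (H := Q)).symm ▸ mem_top g))
      (closure_mono ?_)
    rintro _ ⟨z, ⟨hz, ⟨m, hm⟩, hzq⟩, rfl⟩
    refine ⟨(mem_normalizer_iff.1 hg z).1 hz, ⟨m, by rw [← map_pow, hm, map_one]⟩, ?_⟩
    show ⁅⁅V, zpowers (f (g * z * g⁻¹))⁆, zpowers (f (g * z * g⁻¹))⁆ = ⊥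
    rw [map_mul, map_mul, map_inv]
    exact Quadratic.quadratic_conj_of_mem (hfV ⟨g, rfl⟩) hzq
  have hpair : ∀ H : Subgroup G, ∀ z ∈ H, Quad z →
      f z ∉ (Cfsg.pCore q ↥(H.map f)).map (H.map f).subtype →
      ∃ (P : Subgroup G) (j : G), P ≤ H ∧ j ∈ H ∧ IsPGroup q P ∧ z ∈ P ∧
        j ∈ normalizer (P : Set G) ∧ 2 ∣ orderOf (f j) := by
    intro H z hz hzQ hznot
    obtain ⟨b, ⟨y, hy, rfl⟩, hbq, hnp⟩ := Quadratic.exists_quadratic_pair hVel
      ((map_le_range f H).trans hfV)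
      (le_bot_iff.1 ((inf_le_inf_right _ (map_le_range f H)).trans hfaith.le))
      (mem_map_of_mem f hz) hzQ.2 hznot
    obtain ⟨P, j, hP, hj, h1, h2, h3, h4⟩ :=
      exists_even_normalizing hq2 f V hVel hfV hzQ.1 hzQ.2 hbq hnp
    have hle : closure ({z, y} : Set G) ≤ H := (closure_le _).2 (by
      rintro w (rfl | rfl)
      exacts [hz, hy])
    exact ⟨P, j, hP.trans hle, hle hj, h1, h2, h3, h4⟩
  -- images of normal `q`-subgroups
  have hcore : ∀ {H S : Subgroup G}, S ≤ H → H ≤ normalizer (S : Set G) → IsPGroup q S →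
      ∀ z ∈ S, f z ∈ (Cfsg.pCore q ↥(H.map f)).map (H.map f).subtype := by
    intro H S hSH hn hS z hz
    haveI : ((S.map f).subgroupOf (H.map f)).Normal :=
      (normal_subgroupOf_iff_le_normalizer (map_mono hSH)).2
        ((map_mono hn).trans (le_normalizer_map f))
    exact ⟨⟨f z, mem_map_of_mem f (hSH hz)⟩,
      PCore.le_pCore (N := (S.map f).subgroupOf (H.map f)) ((hS.map f).comap_subtype)
      (mem_subgroupOf.2 (mem_map_of_mem f hz)), rfl⟩
  let Ev : Subgroup G → Prop := fun H => ∃ j ∈ H, 2 ∣ orderOf (f j)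
  set 𝒰 := {S : Subgroup G | IsPGroup q S ∧ W S = S ∧ Ev (normalizer (S : Set G))} with h𝒰
  have hQ𝒰 : Q ∈ 𝒰 := by
    refine ⟨hQp, le_antisymm (hWle le_rfl) (hQW Q), ?_⟩
    have hnot : f a ∉ (Cfsg.pCore q fr).map fr.subtype := by
      rintro ⟨w, hw, hwe⟩
      exact hfa (by rwa [show f' a = w from Subtype.ext hwe.symm])
    obtain ⟨P, j, -, -, -, -, -, h4⟩ := hpair ⊤ a (mem_top a) haQuad hnot
    exact ⟨j, (normalizer_eq_top (H := Q)).symm ▸ mem_top j, h4⟩
  obtain ⟨U₀, ⟨hU₀p, hU₀W, j, hjH, hj⟩, hmax⟩ :=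
    Set.exists_max_image 𝒰 (fun S => Nat.card S) (Set.toFinite _) ⟨Q, hQ𝒰⟩
  set H := normalizer (U₀ : Set G) with hHdef
  obtain ⟨S₀, hS₀H, hUS, hS₀p, hidx⟩ := exists_not_dvd_relIndex hU₀p (le_normalizer : U₀ ≤ H)
  have hQU : Q ≤ U₀ := hU₀W ▸ hQW U₀
  by_cases hex : ∃ z ∈ S₀, Quad z ∧ f z ∉ (Cfsg.pCore q ↥(H.map f)).map (H.map f).subtype
  · -- a larger member
    obtain ⟨z, hz, hzQ, hznot⟩ := hex
    obtain ⟨P, j', hPH, hj'H, hPp, hzP, hj'P, hj'⟩ := hpair H z (hS₀H hz) hzQ hznot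
    set U' := U₀ ⊔ P
    have hU'p : IsPGroup q U' := hU₀p.to_sup_of_normal_left' hPp hPH
    have hmem : W U' ∈ 𝒰 := by
      refine ⟨hU'p.to_le (hWle (hQU.trans le_sup_left)), hWW U', j', hWc U' ?_, hj'⟩
      refine Subnormal.mem_normalizer_of_cj_le ?_
      show U'.map (MulAut.conj j').toMonoidHom ≤ U'
      simp only [U']
      rw [Subgroup.map_sup]
      exact sup_le_sup (le_of_map_eq_self hj'H) (le_of_map_eq_self hj'P)
    have hle : U₀ ≤ W U' := hU₀W ▸ hWm fun y hy _ => mem_sup_left hy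
    have heq := eq_of_le_of_card_ge hle (hmax _ hmem)
    have hzU : z ∈ U₀ := heq ▸ hWmem (mem_sup_right hzP) hzQ
    exact hznot (hcore le_normalizer le_rfl hU₀p z hzU)
  · push Not at hex
    set R := ((Cfsg.pCore q ↥(H.map f)).map (H.map f).subtype).comap f ⊓ H with hR
    have hRn : H ≤ normalizer (R : Set G) := by
      intro h hh
      refine Subnormal.mem_normalizer_of_cj_le ?_
      rintro _ ⟨r, hr, rfl⟩
      show h * r * h⁻¹ ∈ R
      obtain ⟨hr1, hrH⟩ := mem_inf.1 (show r ∈ R from hr)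
      obtain ⟨w, hw, hwe⟩ := mem_map.1 (mem_comap.1 hr1)
      refine mem_inf.2 ⟨mem_comap.2 (mem_map.2
        ⟨(⟨f h, mem_map_of_mem f hh⟩ : ↥(H.map f)) * w * (⟨f h, mem_map_of_mem f hh⟩ : ↥(H.map f))⁻¹,
        (inferInstance : (Cfsg.pCore q ↥(H.map f)).Normal).conj_mem w hw _, ?_⟩),
        mul_mem (mul_mem hh hrH) (inv_mem hh)⟩
      show f h * w * (f h)⁻¹ = f (h * r * h⁻¹)
      rw [map_mul, map_mul, map_inv, ← show (w : Offender.Model U) = f r from hwe]
    set S' := S₀ ⊓ R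
    obtain ⟨m, hm, hmj⟩ := exists_mul_mem_normalizer (hS₀p.to_le inf_le_left : IsPGroup q S')
      inf_le_right (not_dvd_relIndex_inf hidx hS₀H inf_le_right (hS₀H.trans hRn)) (hRn hjH)
    have hWS : W S₀ = W S' := le_antisymm
      (hWm fun z hz hzQ => ⟨hz, hex z hz hzQ, hS₀H hz⟩) (hWm fun z hz _ => hz.1)
    -- `W S₀` belongs to the family
    have hmem : W S₀ ∈ 𝒰 := by
      refine ⟨hS₀p.to_le (hWle (hQU.trans hUS)), hWW S₀, m * j, hWS ▸ hWc S' hmj, ?_⟩
      by_contra hodd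
      set fh := H.map f with hfh
      obtain ⟨⟨w, hw, hwe⟩, -⟩ := hm
      set o := orderOf (f (m * j))
      set π := QuotientGroup.mk' (Cfsg.pCore q fh)
      set w' : fh := ⟨f j, mem_map_of_mem f hjH⟩
      have h1 : π w' ^ o = 1 := by
        have h2 : (w * w') ^ o = 1 := Subtype.ext (by
          show ((w : Offender.Model U) * f j) ^ o = 1
          rw [show (w : Offender.Model U) = f m from hwe, ← map_mul, pow_orderOf_eq_one])
        have h3 := congrArg π h2
        rwa [map_pow, map_mul, show π w = 1 from (QuotientGroup.eq_one_iff w).2 hw, one_mul, map_one] at h3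
      rw [← map_pow] at h1
      obtain ⟨i, hi⟩ := PCore.isPGroup_pCore (G := fh) (p := q) ⟨_, (QuotientGroup.eq_one_iff _).1 h1⟩
      have h4 : f j ^ (o * q ^ i) = 1 := by
        rw [pow_mul]
        exact congrArg (fun t : ↥(Cfsg.pCore q fh) => ((t : fh) : Offender.Model U)) hi
      have h5 := hj.trans (orderOf_dvd_of_pow_eq_one h4)
      rcases Nat.prime_two.dvd_mul.1 h5 with h6 | h6
      · exact hodd h6
      · exact hq2 ((Nat.prime_dvd_prime_iff_eq Nat.prime_two hq.out).1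
          (Nat.prime_two.dvd_of_dvd_pow h6)).symm
    have hle : U₀ ≤ W S₀ := hU₀W ▸ hWm fun y hy _ => hUS hy
    have heq := eq_of_le_of_card_ge hle (hmax _ hmem)
    -- `S₀` is a Sylow subgroup
    obtain ⟨T', hT'⟩ := hS₀p.exists_le_sylow
    have hST : S₀ = (T' : Subgroup G) := by
      by_contra hne
      have h1 := Transfer.lt_inf_normalizer_of_lt T'.2 (lt_of_le_of_ne hT' hne)
      set S₁ := (T' : Subgroup G) ⊓ normalizer (S₀ : Set G)
      have hS₁H : S₁ ≤ H := by
        rw [hHdef, heq]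
        exact inf_le_right.trans (hWc S₀)
      obtain ⟨i, hi⟩ := (T'.2.to_le inf_le_left : IsPGroup q S₁).exists_card_eq
      obtain ⟨l, -, hl⟩ := (Nat.dvd_prime_pow hq.out).1 (hi ▸ relIndex_dvd_card ..
        : S₀.relIndex S₁ ∣ q ^ i)
      rcases l with _ | l
      · exact h1.not_ge (relIndex_eq_one.1 (by simpa using hl))
      · exact hidx ((hl ▸ dvd_pow_self q l.succ_ne_zero : q ∣ S₀.relIndex S₁).trans
          (Dvd.intro _ (relIndex_mul_relIndex _ _ _ h1.le hS₁H)))
    have hjo : 2 ∣ orderOf j := hj.trans (orderOf_map_dvd f j)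
    obtain ⟨c, hc⟩ := hjo
    have hc0 : 0 < c := by have := orderOf_pos j; omega
    have hjc1 : j ^ c ≠ 1 := fun h => by
      have := Nat.le_of_dvd hc0 (orderOf_dvd_of_pow_eq_one h)
      omega
    have hHt : H = ⊤ := hodd H T' (hST ▸ hS₀H) (j ^ c) (pow_mem hjH _) hjc1
      ⟨1, by rw [pow_one, ← pow_mul, mul_comm, ← hc, pow_orderOf_eq_one]⟩
    haveI : U₀.Normal := normalizer_eq_top_iff.1 hHt
    have hUQ : U₀ ≤ Q := PCore.le_pCore hU₀p
    obtain ⟨l, hl⟩ := haQuad.1
    have hap : IsPGroup q (zpowers a) := by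
      rintro ⟨_, i, rfl⟩
      refine ⟨l, Subtype.ext ?_⟩
      show (a ^ i) ^ q ^ l = 1
      rw [← zpow_natCast, ← zpow_mul, mul_comm, zpow_mul, zpow_natCast, hl, one_zpow]
    obtain ⟨T'', hT''⟩ := hap.exists_le_sylow
    obtain ⟨g, hg⟩ := MulAction.exists_smul_eq G T'' T'
    have hgT : g * a * g⁻¹ ∈ S₀ := by
      rw [hST, ← hg, Sylow.coe_subgroup_smul]
      exact ⟨a, hT'' (mem_zpowers a), rfl⟩
    have hgQ : Quad (g * a * g⁻¹) := by
      refine ⟨⟨l, by rw [conj_pow, hl, mul_one, mul_inv_cancel]⟩, ?_⟩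
      rw [map_mul, map_mul, map_inv]
      exact Quadratic.quadratic_conj_of_mem (hfV ⟨g, rfl⟩) haQuad.2
    have haQ : a ∈ Q := by
      have h1 : g * a * g⁻¹ ∈ Q := hUQ (heq ▸ hWmem hgT hgQ)
      have := (inferInstance : Q.Normal).conj_mem _ h1 g⁻¹
      simpa [mul_assoc] using this
    obtain ⟨w, hw, hwe⟩ := hcore (le_top : Q ≤ ⊤)
      (fun t _ => (normalizer_eq_top (H := Q)).symm ▸ mem_top t) hQp a haQ
    exact hfa (by rwa [show f' a = w from Subtype.ext hwe.symm])

theorem inv_normalizer_zjA (hq2 : q ≠ 2) (T : Sylow q G) (h : Inv q (⊤ : Subgroup G)) :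
    Inv q (normalizer (zjA G (T : Subgroup G) : Set G)) :=
  inv_normalizer_zjA_aux hq2 _ G rfl T h

end Cfsg.Agent.ZJControl
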